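import Cfsg.Agent.FusU.A

/-! A model of the Sylow `p`-subgroup of `SU₅(q)`. -/

set_option autoImplicit false
set_option linter.style.haveILetI false

namespace CF.FusU

open Cfsg Cfsg.FusionSystem Subgroup CF.Fus CF.FusD Function

/-- finite fields with a nontrivial involution -/
class Uf (K : Type*) [Field K] [StarRing K] : Prop where
  fin : Finite K
  nr : ∃ a : K, star a ≠ a
  nm : ∀ a : K, star a = a → ∃ x, x * star x = a
  aut : ∀ (τ : K ≃+* K) (x : K), τ (star x) = star (τ x)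

instance finUf {K : Type*} [Field K] [StarRing K] [h : Uf K] : Finite K := h.fin

/-- the model of the Sylow subgroup -/
@[ext] structure Su (K : Type*) [Field K] [StarRing K] where
  s : K
  b : K
  c : K
  r : K
  u : K
  z : K
  hc : star c = -c - b * star b
  hz : star z = -z - s * star u - star s * u - r * star r

attribute [simp] Su.hc Su.hz

namespace Su

variable {K : Type*} [Field K] [StarRing K]

instance instMulSu : Mul (Su K) := ⟨fun x y =>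
  ⟨x.s + y.s, x.b + y.b, x.c + y.c - x.b * star y.b, x.r + y.r + x.s * y.b, x.u + y.u + x.s * y.c - x.r * star y.b,
    x.z + y.z - x.s * (star y.u + star y.s * y.c + star y.r * y.b) + x.r * (star y.s * star y.b - star y.r) -
      x.u * star y.s, by simp; ring, by simp; ring⟩⟩
instance instOneSu : One (Su K) := ⟨⟨0, 0, 0, 0, 0, 0, by simp, by simp⟩⟩
instance instInvSu : Inv (Su K) := ⟨fun x => ⟨-x.s, -x.b, -x.c - x.b * star x.b, x.s * x.b - x.r,
  x.s * x.c + x.s * x.b * star x.b - x.u - x.r * star x.b, -x.z - x.s * star x.u - star x.s * x.u - x.r * star x.r,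
  by simp; ring, by simp; ring⟩⟩

@[simp] theorem mul_s (x y : Su K) : (x * y).s = x.s + y.s := rfl
@[simp] theorem mul_b (x y : Su K) : (x * y).b = x.b + y.b := rfl
@[simp] theorem mul_c (x y : Su K) : (x * y).c = x.c + y.c - x.b * star y.b := rfl
@[simp] theorem mul_r (x y : Su K) : (x * y).r = x.r + y.r + x.s * y.b := rfl
@[simp] theorem mul_u (x y : Su K) : (x * y).u = x.u + y.u + x.s * y.c - x.r * star y.b := rfl
@[simp] theorem mul_z (x y : Su K) : (x * y).z = x.z + y.z - x.s * (star y.u + star y.s * y.c + star y.r * y.b) +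
    x.r * (star y.s * star y.b - star y.r) - x.u * star y.s := rfl
@[simp] theorem one_s : (1 : Su K).s = 0 := rfl
@[simp] theorem one_b : (1 : Su K).b = 0 := rfl
@[simp] theorem one_c : (1 : Su K).c = 0 := rfl
@[simp] theorem one_r : (1 : Su K).r = 0 := rfl
@[simp] theorem one_u : (1 : Su K).u = 0 := rfl
@[simp] theorem one_z : (1 : Su K).z = 0 := rfl
@[simp] theorem inv_s (x : Su K) : x⁻¹.s = -x.s := rfl
@[simp] theorem inv_b (x : Su K) : x⁻¹.b = -x.b := rfl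
@[simp] theorem inv_c (x : Su K) : x⁻¹.c = -x.c - x.b * star x.b := rfl
@[simp] theorem inv_r (x : Su K) : x⁻¹.r = x.s * x.b - x.r := rfl
@[simp] theorem inv_u (x : Su K) : x⁻¹.u = x.s * x.c + x.s * x.b * star x.b - x.u - x.r * star x.b := rfl
@[simp] theorem inv_z (x : Su K) : x⁻¹.z = -x.z - x.s * star x.u - star x.s * x.u - x.r * star x.r := rfl

instance instGroupSu : Group (Su K) := Group.ofLeftAxioms
  (fun _ _ _ => by ext <;> simp <;> ring) (fun _ => by ext <;> simp) fun _ => by ext <;> simp <;> ring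

instance instFiniteSu [Finite K] : Finite (Su K) :=
  Finite.of_injective (fun x => (x.s, x.b, x.c, x.r, x.u, x.z)) fun x y e => by
    simp only [Prod.mk.injEq] at e
    exact Su.ext e.1 e.2.1 e.2.2.1 e.2.2.2.1 e.2.2.2.2.1 e.2.2.2.2.2

variable (x y : Su K)

@[simp] theorem cm_s : (cm x y).s = 0 := by simp [cm]
@[simp] theorem cm_b : (cm x y).b = 0 := by simp [cm]
theorem cm_c : (cm x y).c = x.b * star y.b - y.b * star x.b := by simp [cm]; ring
theorem cm_r : (cm x y).r = y.s * x.b - x.s * y.b := by simp [cm]; ring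
theorem cm_u : (cm x y).u = y.s * x.c - x.s * y.c + x.r * star y.b - y.r * star x.b +
    x.s * (y.b * star x.b - x.b * star y.b) + (y.s * x.b - x.s * y.b) * star y.b := by simp [cm]; ring

variable {x y}

theorem cm_z (h1 : x.b = 0) (h2 : x.c = 0) (h3 : y.b = 0) (h4 : y.c = 0) : (cm x y).z =
    x.s * star y.u + x.r * star y.r + x.u * star y.s - (y.s * star x.u + y.r * star x.r + y.u * star x.s) := by
  simp [cm, h1, h2, h3, h4]; ring

end Su

open Su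

variable {K : Type*} [Field K] [StarRing K] {x y z t a : Su K}

/-- the subgroup on which `s` vanishes -/
def Q2 (K : Type*) [Field K] [StarRing K] : Subgroup (Su K) where
  carrier := {x | x.s = 0}
  one_mem' := rfl
  mul_mem' := fun {x y} h k => by simp_all
  inv_mem' := fun {x} h => by simp_all

/-- the subgroup on which `b` and `c` vanish -/
def Q1 (K : Type*) [Field K] [StarRing K] : Subgroup (Su K) where
  carrier := {x | x.b = 0 ∧ x.c = 0}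
  one_mem' := ⟨rfl, rfl⟩
  mul_mem' := fun {x y} h k => by simp_all
  inv_mem' := fun {x} h => by simp_all

/-- the derived subgroup -/
def Z3 (K : Type*) [Field K] [StarRing K] : Subgroup (Su K) where
  carrier := {x | x.s = 0 ∧ x.b = 0}
  one_mem' := ⟨rfl, rfl⟩
  mul_mem' := fun {x y} h k => by simp_all
  inv_mem' := fun {x} h => by simp_all

/-- the centre of `Q2` -/
def sU (K : Type*) [Field K] [StarRing K] : Subgroup (Su K) where
  carrier := {x | x.s = 0 ∧ x.b = 0 ∧ x.r = 0}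
  one_mem' := ⟨rfl, rfl, rfl⟩
  mul_mem' := fun {x y} h k => by simp_all
  inv_mem' := fun {x} h => by simp_all

/-- the second centre -/
def Z2 (K : Type*) [Field K] [StarRing K] : Subgroup (Su K) where
  carrier := {x | x.s = 0 ∧ x.b = 0 ∧ x.r = 0 ∧ x.c = 0}
  one_mem' := ⟨rfl, rfl, rfl, rfl⟩
  mul_mem' := fun {x y} h k => by simp_all
  inv_mem' := fun {x} h => by simp_all

/-- the centre -/
def Z1 (K : Type*) [Field K] [StarRing K] : Subgroup (Su K) where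
  carrier := {x | x.s = 0 ∧ x.b = 0 ∧ x.r = 0 ∧ x.c = 0 ∧ x.u = 0}
  one_mem' := ⟨rfl, rfl, rfl, rfl, rfl⟩
  mul_mem' := fun {x y} h k => by simp_all
  inv_mem' := fun {x} h => by simp_all

theorem mem_Q2 : x ∈ Q2 K ↔ x.s = 0 := Iff.rfl
theorem mem_Q1 : x ∈ Q1 K ↔ x.b = 0 ∧ x.c = 0 := Iff.rfl
theorem mem_Z3 : x ∈ Z3 K ↔ x.s = 0 ∧ x.b = 0 := Iff.rfl
theorem mem_sU : x ∈ sU K ↔ x.s = 0 ∧ x.b = 0 ∧ x.r = 0 := Iff.rfl
theorem mem_Z2 : x ∈ Z2 K ↔ x.s = 0 ∧ x.b = 0 ∧ x.r = 0 ∧ x.c = 0 := Iff.rfl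
theorem mem_Z1 : x ∈ Z1 K ↔ x.s = 0 ∧ x.b = 0 ∧ x.r = 0 ∧ x.c = 0 ∧ x.u = 0 := Iff.rfl

theorem Z1_le : Z1 K ≤ Z2 K := fun _ h => ⟨h.1, h.2.1, h.2.2.1, h.2.2.2.1⟩
theorem Z2_le : Z2 K ≤ sU K := fun _ h => ⟨h.1, h.2.1, h.2.2.1⟩
theorem sU_le : sU K ≤ Z3 K := fun _ h => ⟨h.1, h.2.1⟩
theorem Z3_le : Z3 K ≤ Q2 K := fun _ h => h.1
theorem Z2_le_Q1 : Z2 K ≤ Q1 K := fun _ h => ⟨h.2.1, h.2.2.2⟩
theorem Z1_of (h : x ∈ Z2 K) (e : x.u = 0) : x ∈ Z1 K := ⟨h.1, h.2.1, h.2.2.1, h.2.2.2, e⟩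

theorem Z1_ext (h : x ∈ Z1 K) (k : y ∈ Z1 K) (e : x.z = y.z) : x = y :=
  Su.ext (h.1.trans k.1.symm) (h.2.1.trans k.2.1.symm) (h.2.2.2.1.trans k.2.2.2.1.symm) (h.2.2.1.trans k.2.2.1.symm)
    (h.2.2.2.2.trans k.2.2.2.2.symm) e

theorem Z1_sk (h : x ∈ Z1 K) : star x.z = -x.z := by simp [h.1, h.2.2.1]
theorem c_sk (h : x.b = 0) : star x.c = -x.c := by simp [h]

theorem cm_Z3 (x y : Su K) : cm x y ∈ Z3 K := ⟨cm_s x y, cm_b x y⟩

theorem cm_Z2 (h : x ∈ Z3 K) (y : Su K) : cm x y ∈ Z2 K :=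
  ⟨cm_s x y, cm_b x y, by simp [cm_r, h.1, h.2], by simp [cm_c, h.2]⟩

theorem cm_Z2' (x : Su K) (h : y ∈ Z3 K) : cm x y ∈ Z2 K :=
  ⟨cm_s x y, cm_b x y, by simp [cm_r, h.1, h.2], by simp [cm_c, h.2]⟩

theorem cm_u3 (h : x ∈ Z3 K) (y : Su K) : (cm x y).u = y.s * x.c + x.r * star y.b := by simp [cm_u, h.1, h.2]
theorem cm_u3' (x : Su K) (h : y ∈ Z3 K) : (cm x y).u = -(x.s * y.c + y.r * star x.b) := by
  simp [cm_u, h.1, h.2]; ring

theorem cm_Z1 (h : x ∈ Z2 K) (y : Su K) : cm x y ∈ Z1 K :=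
  Z1_of (cm_Z2 ⟨h.1, h.2.1⟩ y) (by simp [cm_u3 ⟨h.1, h.2.1⟩, h.2.2.1, h.2.2.2])

theorem cm_Z1' (x : Su K) (h : y ∈ Z2 K) : cm x y ∈ Z1 K :=
  Z1_of (cm_Z2' x ⟨h.1, h.2.1⟩) (by simp [cm_u3' x ⟨h.1, h.2.1⟩, h.2.2.1, h.2.2.2])

theorem cm_z2 (h : x ∈ Z2 K) (y : Su K) : (cm x y).z = x.u * star y.s - y.s * star x.u := by
  simp [cm, h.1, h.2.1, h.2.2.1, h.2.2.2]; ring

theorem cm_z2' (x : Su K) (h : y ∈ Z2 K) : (cm x y).z = x.s * star y.u - y.u * star x.s := by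
  simp [cm, h.1, h.2.1, h.2.2.1, h.2.2.2]; ring

theorem Z1_comm (h : z ∈ Z1 K) (x : Su K) : x * z = z * x := by
  ext <;> simp [h.1, h.2.1, h.2.2.1, h.2.2.2.1, h.2.2.2.2, add_comm]

theorem cm_one (h : z ∈ Z1 K) (x : Su K) : cm z x = 1 := cm_eq_one.2 (Z1_comm h x).symm

theorem Z2_comm (h : a ∈ Z2 K) : x * a = a * x ↔ x.s * star a.u = a.u * star x.s := by
  rw [← cm_eq_one, ← sub_eq_zero (a := x.s * _), ← cm_z2' x h]
  exact ⟨fun e => by rw [e]; rfl, Z1_ext (cm_Z1' x h) (one_mem _)⟩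

theorem cm_sU (h : x ∈ Q2 K) (k : y ∈ Q2 K) : cm x y ∈ sU K :=
  ⟨cm_s x y, cm_b x y, by simp [cm_r, mem_Q2.1 h, mem_Q2.1 k]⟩

theorem Q2_comm (h : x ∈ Q2 K) (k : y ∈ Q2 K) : x * y = y * x ↔
    x.b * star y.b = y.b * star x.b ∧ x.r * star y.b = y.r * star x.b ∧ x.r * star y.r = y.r * star x.r := by
  simp only [Su.ext_iff, mul_s, mul_b, mul_c, mul_r, mul_u, mul_z, mem_Q2.1 h, mem_Q2.1 k, star_zero]
  exact ⟨fun h => ⟨by linear_combination -h.2.2.1, by linear_combination -h.2.2.2.2.1,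
    by linear_combination -h.2.2.2.2.2⟩, fun h => ⟨trivial, by ring, by linear_combination -h.1, by ring,
      by linear_combination -h.2.1, by linear_combination -h.2.2⟩⟩

theorem sU_comm (h : a ∈ sU K) (k : x ∈ Q2 K) : x * a = a * x := by simp [Q2_comm k h.1, h.2.1, h.2.2]

theorem cm_Q1 (h : x ∈ Q1 K) (k : y ∈ Q1 K) : cm x y ∈ Z1 K :=
  ⟨cm_s x y, cm_b x y, by simp [cm_r, h.1, k.1], by simp [cm_c, h.1, k.1], by simp [cm_u, h.1, h.2, k.1, k.2]⟩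

theorem cm_33 (h : x ∈ Z3 K) (k : y ∈ Z3 K) : cm x y ∈ Z1 K := Z1_of (cm_Z2 h y) (by simp [cm_u3 h, k.1, k.2])

theorem cm_mem_Q1 (h : x ∈ Q1 K) (y : Su K) : cm x y ∈ Q1 K := ⟨cm_b x y, by simp [cm_c, h.1]⟩

theorem norm_of_Z3 {P : Subgroup (Su K)} (h : ∀ x ∈ P, ∀ y, cm x y ∈ P) (t : Su K) : t ∈ normalizer (P : Set (Su K)) :=
  have a : ∀ s : Su K, ∀ x ∈ P, s * x * s⁻¹ ∈ P := fun s x hx => mul_cm x s ▸ mul_mem hx (h x hx s)
  mem_normalizer_of (a t) fun x hx => by simpa using a t⁻¹ x hx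

theorem norm_Q1 (t : Su K) : t ∈ normalizer (Q1 K : Set (Su K)) := norm_of_Z3 (fun _ => cm_mem_Q1) t
theorem norm_Q2 (t : Su K) : t ∈ normalizer (Q2 K : Set (Su K)) := norm_of_Z3 (fun x _ y => cm_s x y) t
theorem norm_Z1 (t : Su K) : t ∈ normalizer (Z1 K : Set (Su K)) := norm_of_Z3 (fun _ h y => cm_Z1 (Z1_le h) y) t
theorem norm_sU (t : Su K) : t ∈ normalizer (sU K : Set (Su K)) :=
  norm_of_Z3 (fun _ h y => Z2_le (cm_Z2 (sU_le h) y)) t

theorem comm_r (h : x * y = y * x) : x.s * y.b = y.s * x.b := by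
  have := congrArg Su.r h
  simp only [mul_r] at this
  linear_combination this

theorem comm_c (h : x * y = y * x) : x.b * star y.b = y.b * star x.b := by
  have := congrArg Su.c h
  simp only [mul_c] at this
  linear_combination -this

theorem comm_u (h : x * y = y * x) : x.s * y.c + y.r * star x.b = y.s * x.c + x.r * star y.b := by
  have := congrArg Su.u h
  simp only [mul_u] at this
  linear_combination this

/-- root elements -/
def xs (s : K) : Su K := ⟨s, 0, 0, 0, 0, 0, by simp, by simp⟩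
/-- root elements -/
def xu (u : K) : Su K := ⟨0, 0, 0, 0, u, 0, by simp, by simp⟩
/-- root elements -/
def xc (c : K) (h : star c = -c) : Su K := ⟨0, 0, c, 0, 0, 0, by simp [h], by simp⟩
/-- root elements -/
def xz (z : K) (h : star z = -z) : Su K := ⟨0, 0, 0, 0, 0, z, by simp, by simp [h]⟩

theorem xu_mem (u : K) : xu u ∈ Z2 K := ⟨rfl, rfl, rfl, rfl⟩
theorem xs_mem (s : K) : xs s ∈ Q1 K := ⟨rfl, rfl⟩
theorem xc_mem {c : K} (h : star c = -c) : xc c h ∈ sU K := ⟨rfl, rfl, rfl⟩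
theorem xz_mem {c : K} (h : star c = -c) : xz c h ∈ Z1 K := ⟨rfl, rfl, rfl, rfl, rfl⟩

theorem real_zero {s a : K} (h : star a ≠ a) (h1 : star s = s) (h2 : star (a * s) = a * s) : s = 0 := by
  rw [star_mul', h1] at h2
  exact (mul_eq_zero.1 (show (star a - a) * s = 0 by linear_combination h2)).resolve_left (sub_ne_zero.2 h)

variable [Uf K]

theorem exists_theta : ∃ θ : K, star θ = 1 - θ := by
  obtain ⟨a, ha⟩ := Uf.nr (K := K)
  have := sub_ne_zero.2 ha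
  have := sub_ne_zero.2 ha.symm
  exact ⟨a / (a - star a), by simp only [star_div₀, star_sub, star_star]; field_simp; ring⟩

theorem exists_tr {a : K} (h : star a = a) : ∃ x : K, x + star x = a :=
  let ⟨θ, e⟩ := exists_theta (K := K)
  ⟨θ * a, by rw [star_mul', e, h]; ring⟩

theorem exists_sk : ∃ c : K, c ≠ 0 ∧ star c = -c :=
  let ⟨a, h⟩ := Uf.nr (K := K)
  ⟨a - star a, sub_ne_zero.2 h.symm, by simp⟩

theorem exists_sk_eq {s ζ : K} (hs : s ≠ 0) (h : star ζ = -ζ) : ∃ t : K, s * star t - t * star s = ζ := by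
  obtain ⟨θ, e⟩ := exists_theta (K := K)
  have := star_ne_zero.2 hs
  exact ⟨-(θ * ζ) / star s, by simp only [star_div₀, star_neg, star_mul', star_star, e, h]; field_simp; ring⟩

theorem eq_zero_of_real {s : K} (h : ∀ t : K, s * star t = t * star s) : s = 0 := by
  by_contra n
  obtain ⟨c, c0, e⟩ := exists_sk (K := K)
  obtain ⟨t, ht⟩ := exists_sk_eq n e
  exact c0 (by rw [← ht, h, sub_self])

theorem exists_not_real {f : K → K} (h : Injective f) : ∃ x, star (f x) ≠ f x := by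
  obtain ⟨a, ha⟩ := Uf.nr (K := K)
  obtain ⟨x, rfl⟩ := Finite.injective_iff_surjective.1 h a
  exact ⟨x, ha⟩

theorem exists_el (s r u : K) {b c : K} (h : star c = -c - b * star b) :
    ∃ x : Su K, x.s = s ∧ x.b = b ∧ x.c = c ∧ x.r = r ∧ x.u = u :=
  let ⟨θ, e⟩ := exists_theta (K := K)
  ⟨⟨s, b, c, r, u, -(s * star u) - θ * r * star r, h, by simp [e]; ring⟩, rfl, rfl, rfl, rfl, rfl⟩

theorem exists_c (b : K) : ∃ c : K, star c = -c - b * star b :=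
  let ⟨θ, e⟩ := exists_theta (K := K)
  ⟨-(θ * b * star b), by simp [e]; ring⟩

theorem exists_el' (s b r u : K) : ∃ x : Su K, x.s = s ∧ x.b = b ∧ x.r = r ∧ x.u = u :=
  let ⟨_, e⟩ := exists_c b
  let ⟨x, h⟩ := exists_el s r u e
  ⟨x, h.1, h.2.1, h.2.2.2⟩

theorem exists_Q1 (s r u : K) : ∃ x ∈ Q1 K, x.s = s ∧ x.r = r ∧ x.u = u :=
  let ⟨x, h⟩ := exists_el s r u (b := 0) (c := 0) (by simp)
  ⟨x, ⟨h.2.1, h.2.2.1⟩, h.1, h.2.2.2⟩

theorem exists_Z3 {c : K} (h : star c = -c) (r : K) : ∃ x ∈ Z3 K, x.c = c ∧ x.r = r :=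
  let ⟨x, h⟩ := exists_el 0 r 0 (b := 0) (c := c) (by simp [h])
  ⟨x, ⟨h.1, h.2.1⟩, h.2.2.1, h.2.2.2.1⟩

theorem exists_cm_Z2 (hx : x.s ≠ 0) (hz : z ∈ Z1 K) : ∃ a ∈ Z2 K, cm x a = z :=
  let ⟨t, e⟩ := exists_sk_eq hx (Z1_sk hz)
  ⟨xu t, xu_mem t, Z1_ext (cm_Z1' x (xu_mem t)) hz ((cm_z2' x (xu_mem t)).trans e)⟩

theorem s_zero (h : ∀ a ∈ Z2 K, x * a = a * x) : x.s = 0 :=
  eq_zero_of_real fun t => (Z2_comm (xu_mem t)).1 (h _ (xu_mem t))

theorem CS_Q2 : CS ⊤ (Q2 K) ≤ Q2 K := fun _ h => s_zero fun a ha => (h.2 a ha.1).symm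

theorem cen_Q2 (hx : x ∈ Q2 K) (h : ∀ y ∈ Q2 K, x * y = y * x) : x ∈ sU K := by
  refine ⟨hx, eq_zero_of_real fun t => ?_, eq_zero_of_real fun t => ?_⟩
  · obtain ⟨y, y1, rfl, -⟩ := exists_el' 0 t 0 0
    exact ((Q2_comm hx y1).1 (h y y1)).1
  · obtain ⟨y, y1, -, rfl, -⟩ := exists_el' 0 0 t 0
    exact ((Q2_comm hx y1).1 (h y y1)).2.2

theorem CS_Q1 : CS ⊤ (Q1 K) ≤ Q1 K := fun x h =>
  have a : x.b = 0 := by simpa [xs] using comm_r (h.2 _ (xs_mem 1))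
  ⟨a, by simpa [xs, a] using comm_u (h.2 _ (xs_mem 1))⟩

theorem cen_Q1 (h : ∀ y ∈ Q1 K, x * y = y * x) : x ∈ Z1 K := by
  obtain ⟨a1, a2⟩ := CS_Q1 (x := x) ⟨trivial, fun y hy => (h y hy).symm⟩
  have a3 := s_zero fun a ha => h a (Z2_le_Q1 ha)
  have a4 : x.r = 0 := eq_zero_of_real fun t => by
    obtain ⟨y, y1, y2, rfl, -⟩ := exists_Q1 0 t 0
    exact ((Q2_comm a3 y2).1 (h y y1)).2.2
  exact Z1_of ⟨a3, a1, a4, a2⟩ (eq_zero_of_real fun t =>
    ((Z2_comm ⟨a3, a1, a4, a2⟩).1 (h _ (xs_mem t)).symm).symm)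

end CF.FusU
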