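import Cfsg.Agent.FusU.B

/-! Essential subgroups of a Sylow `p`-subgroup of `SU₅(q)`: the second centre, and subgroups of `Q2`. -/

set_option autoImplicit false
set_option linter.style.haveILetI false

namespace CF.FusU

open Cfsg Cfsg.FusionSystem Subgroup CF.Fus CF.FusD Function Su

variable {K : Type*} [Field K] [StarRing K] {x y z t a e : Su K} {E : Subgroup (Su K)} {p : ℕ}
  {Y M : Subgroup (MulAut E)} {g α : MulAut E}

namespace Mn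

variable (h : Mn p ⊤ E Y M)
include h

theorem leZ1 : Z1 K ≤ E := fun _ hz => h.mem_of_comm trivial fun x _ => Z1_comm hz x

theorem nZ2 (ha : a ∈ Z2 K) : a ∈ NS ⊤ E := h.mem_NS trivial fun x _ => h.leZ1 (cm_Z1' x ha)

theorem fixZ (hz : z ∈ Z1 K) (hg : g ∈ Y) (gn : g ∉ M) (ht : t ∈ NS ⊤ E) (tn : t ∉ E)
    (e : fn g z * t = t * fn g z) : ∀ α ∈ Y, fn α z = z :=
  h.fix (h.leZ1 hz) (fun n _ => (Z1_comm hz n).symm) hg gn ht tn e

theorem cenZ (hz : z ∈ Z1 K) (α : MulAut E) (he : e ∈ E) : e * fn α z = fn α z * e :=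
  fn_comm α (h.leZ1 hz) (fun e _ => Z1_comm hz e) he

theorem fn_conj (hg : g ∈ Y) (ht : t ∈ NS ⊤ E) (hx : x ∈ E) :
    g⁻¹ * cA E t * g ∈ Y ∧ fn (g⁻¹ * cA E t * g) x = fn g⁻¹ (t * fn g x * t⁻¹) :=
  ⟨mul_mem (mul_mem (inv_mem hg) (h.cA_mem trivial)) hg, by rw [fn_mul, fn_mul, fn_cA ht.2 (fn_mem g hx)]⟩

variable [Fact p.Prime] [Uf K]

theorem not_fix (ha : a ∈ Z2 K) (an : a ∉ E) (hz : z ∈ Z1 K) (h1 : ∀ α ∈ Y, fn α z = z) : z = 1 := by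
  by_contra z0
  obtain ⟨w, hw, β, hβ, n⟩ : ∃ w ∈ Z1 K, ∃ α ∈ Y, fn α w ≠ w := by
    by_contra! c
    exact an (h.ch2 (le_stab h.leZ1 fun α hα x hx => by rwa [c x hx α hα]) (h.nZ2 ha) (fun x _ => cm_Z1' x ha)
      fun x _ hx => cm_one hx a)
  obtain ⟨g, hg, gn⟩ := h.exg
  have s0 : (fn g w).s ≠ 0 := fun e => n (h.fixZ hw hg gn (h.nZ2 ha) an ((Z2_comm ha).2 (by simp [e])) β hβ)
  obtain ⟨t, ht, e⟩ := exists_cm_Z2 s0 hz
  have l : zpowers z ≤ Z1 K := zpowers_le.2 hz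
  have := h.key (D := zpowers z) (le_stab (l.trans h.leZ1) fun α hα x hx => by
    obtain ⟨k, rfl⟩ := mem_zpowers_iff.1 hx
    rw [(mulOn_fn α).map_zpow (h.leZ1 hz), h1 α hα]
    exact hx) (h.leZ1 hw) (fun n _ => by rw [cm_one hw]; exact one_mem _) hg gn (h.nZ2 ht)
    (fun c => z0 (by rw [← e, cm_eq_one, h.cenZ hw g c])) (e ▸ mem_zpowers z) g hg
  exact s0 (by simpa [hw.1] using (l this).1)

theorem leZ2 : Z2 K ≤ E := fun a ha => by_contra fun an => by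
  have k1 : ∀ g ∈ Y, g ∉ M → ∀ z ∈ Z1 K, ∀ t ∈ NS ⊤ E, t ∉ E → fn g z * t = t * fn g z → z = 1 :=
    fun g hg gn z hz t ht tn e => h.not_fix ha an hz (h.fixZ hz hg gn ht tn e)
  obtain ⟨g, hg, gn⟩ := h.exg
  have k2 : ∀ x ∈ E, ∀ y ∈ E, cm x y ∈ Z1 K → x * y = y * x := fun x hx y hy e =>
    cm_eq_one.1 (k1 g hg gn _ e a (h.nZ2 ha) an ((Z2_comm ha).2 (by simp [fn_cm g hx hy])))
  have k3 : ∀ z ∈ Z1 K, ∃ w ∈ Z1 K, cm (fn g⁻¹ w) a = z := fun z hz => by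
    have i : Injective fun w : Z1 K => (⟨cm (fn g⁻¹ w) a, cm_Z1' _ ha⟩ : Z1 K) := fun v w e => by
      have e1 := congrArg (fun x : Z1 K => x.1.z) e
      simp only [cm_z2' _ ha] at e1
      refine Subtype.ext (inv_mul_eq_one.1 (k1 _ (inv_mem hg) (by simpa using gn) _ (mul_mem (inv_mem v.2) w.2) a
        (h.nZ2 ha) an ((Z2_comm ha).2 ?_)))
      simp only [(mulOn_fn _).map_inv_mul (h.leZ1 v.2) (h.leZ1 w.2), mul_s, inv_s, star_add, star_neg]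
      linear_combination -e1
    obtain ⟨w, e⟩ := Finite.injective_iff_surjective.1 i ⟨z, hz⟩
    exact ⟨w, w.2, congrArg Subtype.val e⟩
  obtain ⟨c, c0, hc⟩ := exists_sk (K := K)
  have z1 := xz_mem hc
  have z0 : xz c hc ≠ 1 := fun e => c0 (congrArg Su.z e)
  have w1 := fn_mem g (h.leZ1 z1)
  have s0 : (fn g (xz c hc)).s ≠ 0 := fun e => z0 (k1 g hg gn _ z1 a (h.nZ2 ha) an ((Z2_comm ha).2 (by simp [e])))
  have k4 : ∀ t ∈ NS ⊤ E, ∃ b ∈ Z2 K, t * b ∈ E := fun t ht => by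
    have m := conj_mem_of_norm ht.2 w1
    obtain ⟨v, hv, e1⟩ := k3 _ (inv_mem (cm_Z1' (fn g⁻¹ (t * fn g (xz c hc) * t⁻¹)) ha))
    obtain ⟨b, hb, e2⟩ := exists_cm_Z2 s0 hv
    refine ⟨b, hb, by_contra fun n => ?_⟩
    have t1 := mul_mem ht (h.nZ2 hb)
    obtain ⟨g1, g2⟩ := h.fn_conj hg t1 (h.leZ1 z1)
    refine z0 (k1 _ g1 (h.nm hg gn t1 n) _ z1 a (h.nZ2 ha) an ((Z2_comm ha).2 ?_))
    rw [g2, show t * b * fn g (xz c hc) * (t * b)⁻¹ = t * (b * fn g (xz c hc) * b⁻¹) * t⁻¹ by group, ← mul_cm _ b, e2,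
      ← mul_assoc, mul_assoc _ v, ← Z1_comm hv, ← mul_assoc, mulOn_fn _ m (h.leZ1 hv)]
    have e3 := congrArg Su.z e1
    simp only [inv_z, cm_s, cm_z2' _ ha, (cm_Z1' _ ha).2.2.1, star_zero] at e3
    simp only [mul_s, star_add]
    linear_combination e3
  have c1 := fun e => h.cenZ z1 g (e := e)
  have k5 : ∀ b ∈ Z2 K, (fn g (xz c hc)).s * star b.u = b.u * star (fn g (xz c hc)).s → b ∈ E := fun b hb e =>
    by_contra fun n => z0 (k1 g hg gn _ z1 b (h.nZ2 hb) n ((Z2_comm hb).2 e))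
  generalize fn g (xz c hc) = w at w1 s0 c1 k5
  have k6 : ∀ x ∈ E, x.s * star w.s = w.s * star x.s := fun x hx =>
    (Z2_comm (xu_mem _)).1 (k2 x hx _ (k5 _ (xu_mem w.s) rfl) (cm_Z1' x (xu_mem _)))
  have k7 : ∀ t ∈ Z3 K, w.s * star (w.s * t.c + t.r * star w.b) = (w.s * t.c + t.r * star w.b) * star w.s →
      ∃ b ∈ Z2 K, t * b ∈ E := fun t ht e => k4 t (h.mem_NS trivial fun x hx => k5 _ (cm_Z2' x ht) (by
    have e1 := comm_r (c1 x hx)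
    have e2 := congrArg star e1
    have e3 := k6 x hx
    have e4 := star_ne_zero.2 s0
    simp only [cm_u3' x ht, star_add, star_neg, star_mul', star_star] at e e2 ⊢
    refine mul_left_cancel₀ (mul_ne_zero s0 e4) ?_
    linear_combination (-x.s * star w.s) * e + w.s * star w.s * star t.r * e1 - star w.s * w.s * t.r * e2 +
      (star w.s * w.s * star t.c - star w.s * t.r * star w.b) * e3))
  have b0 : w.b = 0 := by_contra fun n => by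
    have := star_ne_zero.2 n
    obtain ⟨t, t1, t2, t3⟩ := exists_Z3 (c := 0) (by simp) (w.s / star w.b)
    obtain ⟨b, hb, m⟩ := k7 t t1 (by rw [t2, t3]; field_simp; simp)
    have e := comm_u (c1 _ m)
    simp only [mul_s, mul_b, mul_c, mul_r, t1.1, t1.2, t2, t3, hb.1, hb.2.1, hb.2.2.1, hb.2.2.2, star_add,
      star_zero] at e
    field_simp at e
    exact s0 (by linear_combination -e)
  have k8 : ∀ r, ∃ x ∈ E, x ∈ Z3 K ∧ x.r = r := fun r => by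
    obtain ⟨t, t1, t2, t3⟩ := exists_Z3 (c := 0) (by simp) r
    obtain ⟨b, hb, m⟩ := k7 t t1 (by simp [t2, b0])
    exact ⟨_, m, mul_mem t1 ⟨hb.1, hb.2.1⟩, by simp [t3, hb.2.1, hb.2.2.1]⟩
  obtain ⟨x, x1, x2, x3⟩ := k8 1
  refine one_ne_zero (eq_zero_of_real (K := K) fun r => ?_)
  obtain ⟨y, y1, y2, rfl⟩ := k8 r
  exact x3 ▸ ((Q2_comm x2.1 y2.1).1 (k2 x x1 y y1 (cm_33 x2 y2))).2.2

theorem nZ3 (ht : t ∈ Z3 K) : t ∈ NS ⊤ E := h.mem_NS trivial fun x _ => h.leZ2 (cm_Z2' x ht)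

theorem eq_Q2 (hE : E ≤ Q2 K) : E = Q2 K := by
  have u1 : sU K ≤ E := fun a ha => h.mem_of_comm trivial fun x hx => sU_comm ha (hE hx)
  have n2 : ∀ t ∈ Q2 K, t ∈ NS ⊤ E := fun t ht => h.mem_NS trivial fun x hx => u1 (cm_sU (hE hx) ht)
  refine le_antisymm hE (by_contra fun c => ?_)
  obtain ⟨g, hg, gn⟩ := h.exg
  obtain ⟨a, ha, an⟩ := h.moves u1 (fun n _ x hx => Z2_le (cm_Z2 (sU_le hx) n)) (fun e => c fun t ht =>
    h.ch2 e (n2 t ht) (fun x hx => cm_sU (hE hx) ht) fun x _ hx => cm_eq_one.2 (sU_comm hx ht).symm) hg gn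
  have c1 : ∀ a ∈ sU K, ∀ α, ∀ e ∈ E, e * fn α a = fn α a * e := fun a ha α e he =>
    fn_comm α (u1 ha) (fun e he => sU_comm ha (hE he)) he
  have v1 := fn_mem g (u1 ha)
  have v2 := fun e he => (Q2_comm (hE he) (hE v1)).1 (c1 a ha g e he)
  by_cases b0 : (fn g a).b = 0
  · have r0 : (fn g a).r ≠ 0 := fun e => an ⟨hE v1, b0, e⟩
    have l : E ≤ Z3 K := fun e he => ⟨hE he, by simpa [b0, r0] using (v2 e he).2.1.symm⟩
    have n3 : ∀ t, t ∈ NS ⊤ E := fun t => h.mem_NS trivial fun x hx => h.leZ2 (cm_Z2 (l hx) t)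
    have k : ∀ w ∈ Z3 K, ∃ t ∉ Z3 K, w * t = t * w := fun w hw => by
      by_cases r0 : w.r = 0
      · obtain ⟨t, t1, t2, -⟩ := exists_el' (K := K) 0 1 0 0
        exact ⟨t, fun e => one_ne_zero (t2.symm.trans e.2), (sU_comm ⟨hw.1, hw.2, r0⟩ t1).symm⟩
      have r1 := star_ne_zero.2 r0
      obtain ⟨ρ, e⟩ := exists_sk_eq (ζ := star w.u - w.u - w.c) r0 (by simp [hw.2]; ring)
      obtain ⟨t, t1, t2, t3, t4⟩ := exists_el' 1 (w.c / star w.r) ρ 0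
      refine ⟨t, fun e => one_ne_zero (t1.symm.trans e.1), ?_⟩
      ext <;> simp [hw.1, hw.2, t1, t2, t3, t4] <;> (try field_simp) <;> first | ring1 | linear_combination -e
    have f : ∀ z ∈ Z1 K, ∀ α ∈ Y, fn α z = z := fun z hz =>
      let ⟨t, t1, t2⟩ := k _ (l (fn_mem g (h.leZ1 hz)))
      h.fixZ hz hg gn (n3 t) (fun e => t1 (l e)) t2
    refine r0 (eq_zero_of_real fun r => ?_)
    obtain ⟨t, t1, -, rfl⟩ := exists_Z3 (c := 0) (by simp) r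
    exact (v2 t (h.ch2 (le_stab h.leZ1 fun α hα x hx => by rwa [f x hx α hα]) (n3 t) (fun x hx => cm_33 (l hx) t1)
      fun x _ hx => cm_one hx t)).2.2.symm
  have b1 := star_ne_zero.2 b0
  have l : ∀ e ∈ E, e.b = 0 → e ∈ sU K := fun e he e0 => ⟨hE he, e0, by simpa [e0, b0] using (v2 e he).2.1⟩
  have n3 : ∀ n ∈ NS ⊤ E, n ∈ Q2 K := fun n hn => by
    have := l _ (cm_mem v1 hn.2) (cm_b ..)
    simpa [cm_r, mem_Q2.1 (hE v1), b0, mem_Q2] using this.2.2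
  choose τ t1 t2 t3 t4 using fun r : K => exists_el' 0 0 r 0
  have m : ∀ t ∈ Q2 K, fn g⁻¹ (t * fn g a * t⁻¹) ∈ E := fun t ht => fn_mem _ (conj_mem_of_norm (n2 t ht).2 v1)
  obtain ⟨ρ, n⟩ := exists_not_real (f := fun r => (fn g⁻¹ (τ r * fn g a * (τ r)⁻¹)).b * star (fn g a).b) fun r r' e => by
    by_contra n
    have q : (τ r)⁻¹ * τ r' ∈ Q2 K := mul_mem (inv_mem (t1 r)) (t1 r')
    have tn : (τ r)⁻¹ * τ r' ∉ E := fun e => n (by simpa [t1, t2, t3, neg_add_eq_zero] using (l _ e (by simp [t2])).2.2)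
    obtain ⟨g1, g2⟩ := h.fn_conj hg (n2 _ q) (u1 ha)
    have e1 : (τ r)⁻¹ * τ r' * fn g a * ((τ r)⁻¹ * τ r')⁻¹ =
        fn g a * ((τ r * fn g a * (τ r)⁻¹)⁻¹ * (τ r' * fn g a * (τ r')⁻¹)) := by
      ext <;> simp [t1, t2, t3, t4, mem_Q2.1 (hE v1)] <;> ring
    have m1 := conj_mem_of_norm (n2 _ (t1 r)).2 v1
    have m2 := conj_mem_of_norm (n2 _ (t1 r')).2 v1
    have e2 := h.fix (u1 ha) (fun n hn => (sU_comm ha (n3 n hn)).symm) g1 (h.nm hg gn (n2 _ q) tn) (n2 _ q) tn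
      (sU_comm (l _ (fn_mem _ (u1 ha)) (by
        rw [g2, e1, mulOn_fn _ v1 (mul_mem (inv_mem m1) m2), (mulOn_fn _).map_inv_mul m1 m2, fn_inv_fn]
        simp [ha.2.1, mul_right_cancel₀ b1 e])) q).symm g hg
    exact an (by rwa [e2])
  exact n (by rw [star_mul', star_star, (v2 _ (m _ (t1 ρ))).1, mul_comm])

end Mn

end CF.FusU
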