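import Cfsg.Agent.FusU.C

/-! Essential subgroups of a Sylow `p`-subgroup of `SU₅(q)`: they are `Q1` or `Q2`. -/

set_option autoImplicit false
set_option linter.style.haveILetI false

namespace CF.FusU

open Cfsg Cfsg.FusionSystem Subgroup CF.Fus CF.FusD Function Su

variable {K : Type*} [Field K] [StarRing K] {x y z t a e : Su K} {E : Subgroup (Su K)} {p : ℕ}
  {Y M : Subgroup (MulAut E)} {g α : MulAut E}

theorem exists_cm4 [Uf K] (hx : x.s ≠ 0) (hz : z ∈ Z1 K) : ∃ a ∈ Q2 K, ∃ b ∈ Q2 K, cm (cm (cm x a) b) x = z := by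
  obtain ⟨t, e⟩ := exists_sk_eq hx (Z1_sk hz)
  obtain ⟨a, a1, a2, -⟩ := exists_el' (K := K) 0 1 0 0
  obtain ⟨b, b1, b2, -⟩ := exists_el' 0 (star (t / x.s)) 0 0
  have m := cm_Z2 (cm_Z3 x a) b
  refine ⟨a, a1, b, b1, Z1_ext (cm_Z1 m x) hz ?_⟩
  rw [cm_z2 m, cm_u3 (cm_Z3 x a), cm_r, a1, a2, b1, b2, star_star, ← e,
    show 0 * (cm x a).c + (0 * x.b - x.s * 1) * (t / x.s) = -t by field_simp; ring, star_neg]
  ring

theorem exists_cm3 (hx : x.s * star y.s + y.s * star x.s ≠ 0) (hz : z ∈ Z1 K) : ∃ a ∈ sU K, cm (cm a x) y = z := by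
  have hc : star (z.z / (x.s * star y.s + y.s * star x.s)) = -(z.z / (x.s * star y.s + y.s * star x.s)) := by
    simp only [star_div₀, star_add, star_mul', star_star, Z1_sk hz]; ring
  have m := cm_Z2 (sU_le (xc_mem hc)) x
  refine ⟨_, xc_mem hc, Z1_ext (cm_Z1 m y) hz ?_⟩
  rw [cm_z2 m, cm_u3 (sU_le (xc_mem hc))]
  simp only [xc, zero_mul, add_zero, star_mul', hc]
  field_simp; ring

namespace Mn

variable [Fact p.Prime] [Uf K] (h : Mn p ⊤ E Y M) (he : e ∈ E) (e0 : e.s ≠ 0)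
include h he e0

theorem invZ1 : Y ≤ stab E (Z1 K) := by
  by_contra c
  obtain ⟨g, hg, gn⟩ := h.exg
  obtain ⟨z, hz, n⟩ := h.moves h.leZ1 (fun n _ x hx => cm_Z1 (Z1_le hx) n) c hg gn
  have c1 := fun x => h.cenZ hz g (e := x)
  have k : ∀ t ∈ NS ⊤ E, fn g z * t = t * fn g z → t ∈ E := fun t ht e => by_contra fun tn =>
    n (by rwa [h.fixZ hz hg gn ht tn e g hg])
  have s0 : (fn g z).s = 0 := s_zero fun a ha => (c1 a (h.leZ2 ha)).symm
  have b0 : (fn g z).b = 0 := by simpa [s0, e0] using comm_r (c1 e he)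
  by_cases r0 : (fn g z).r = 0
  · have l : Q2 K ≤ E := h.le_of le_top (fun t _ => norm_Q2 t) fun t ht tn =>
      k t tn (sU_comm ⟨s0, b0, r0⟩ ht).symm
    obtain ⟨a, ha, b, hb, rfl⟩ := exists_cm4 e0 hz
    have m1 := cm_mem' he (l ha)
    have m2 := cm_mem' m1 (l hb)
    rw [fn_cm g m2 he, fn_cm g m1 (l hb), fn_cm g he (l ha)] at n
    exact n (cm_Z1 (cm_Z2 (cm_Z3 _ _) _) _)
  have l : sU K ≤ E := fun t ht => k t (h.nZ3 (sU_le ht)) (sU_comm ht s0)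
  obtain ⟨a, ha, rfl⟩ := exists_cm_Z2 e0 hz
  have k2 : ∀ x ∈ E, ∀ y ∈ E, x.s * star y.s + y.s * star x.s = 0 := fun x hx y hy => by_contra fun d => by
    obtain ⟨u, hu, e⟩ := exists_cm3 d hz
    rw [← e, fn_cm g (cm_mem' (l hu) hx) hy, fn_cm g (l hu) hx] at r0
    exact r0 (cm_Z2 (cm_Z3 _ _) _).2.2.1
  have k3 : ∀ x ∈ E, star (fn g (cm e a)).r * x.b = (fn g (cm e a)).c * star x.s := fun x hx => by
    have := congrArg star (comm_u (c1 x hx))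
    simp only [s0, b0, star_add, star_mul', star_star, star_zero, c_sk b0] at this
    linear_combination this
  have two : (2 : K) = 0 := (mul_eq_zero.1 (show 2 * (e.s * star e.s) = 0 by
    linear_combination k2 e he e he)).resolve_right (mul_ne_zero e0 (star_ne_zero.2 e0))
  have m1 := fn_mem g he
  have m2 := fn_mem g (h.leZ2 ha)
  refine r0 (mul_left_cancel₀ (star_ne_zero.2 r0) ?_)
  have e1 := congrArg Su.r (fn_cm g he (h.leZ2 ha))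
  rw [cm_r] at e1
  linear_combination star (fn g (cm e a)).r * e1 + (fn g a).s * k3 _ m1 - (fn g e).s * k3 _ m2 +
    (fn g (cm e a)).c * k2 _ m1 _ m2 - (fn g (cm e a)).c * (fn g e).s * star (fn g a).s * two

theorem eq_Q1 (hE : E ≤ Q1 K) : E = Q1 K :=
  le_antisymm hE fun t ht => h.ch2 (h.invZ1 he e0) (h.mem_NS trivial fun x hx => h.leZ1 (cm_Q1 (hE hx) ht))
    (fun x hx => cm_Q1 (hE hx) ht) fun x _ hx => cm_one hx t

theorem not_invZ2 : ¬ Y ≤ stab E (Z2 K) := fun c => by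
  have i1 := h.invZ1 he e0
  have l : Z3 K ≤ E := fun t ht => h.ch3 i1 c (h.nZ3 ht) (fun x _ => cm_Z2' x ht) (fun x _ hx => cm_Z1 hx t)
    fun x _ hx => cm_one hx t
  have i2 : Y ≤ stab E (E ⊓ Q2 K) := stab_of_char inf_le_left le_stab_top c le_stab_bot fun x hx =>
    ⟨fun m => ⟨trivial, fun a _ ha => mem_bot.2 (cm_eq_one.2 (sU_comm (Z2_le ha) m.2))⟩, fun m =>
      ⟨hx, s_zero fun a ha => cm_eq_one.1 (m.2 a (h.leZ2 ha) ha)⟩⟩
  have i3 : Y ≤ stab E (sU K) := stab_of_char (sU_le.trans l) i2 i2 le_stab_bot fun x hx =>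
    ⟨fun m => ⟨⟨hx, m.1⟩, fun a _ ha => mem_bot.2 (cm_eq_one.2 (sU_comm m ha.2).symm)⟩, fun m => by
      have k := fun t (ht : t ∈ Z3 K) => (Q2_comm m.1.2 ht.1).1 (cm_eq_one.1 (m.2 t (l ht) ⟨l ht, ht.1⟩))
      obtain ⟨t, t1, -, t2⟩ := exists_Z3 (K := K) (c := 0) (by simp) 1
      refine ⟨m.1.2, by simpa [t1.2, t2] using (k t t1).2.1.symm, eq_zero_of_real fun r => ?_⟩
      obtain ⟨t, t1, -, rfl⟩ := exists_Z3 (c := 0) (by simp) r
      exact (k t t1).2.2⟩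
  have i4 : Y ≤ stab E (Z3 K) := stab_of_char l i2 le_stab_top i3 fun x hx =>
    ⟨fun m => ⟨⟨hx, m.1⟩, fun a _ _ => Z2_le (cm_Z2 m a)⟩, fun m =>
      ⟨m.1.2, by simpa [cm_r, mem_Q2.1 m.1.2, e0] using (m.2 e he trivial).2.2⟩⟩
  obtain ⟨t, ht, tn⟩ := h.ext
  exact tn (h.ch4 i1 c i4 ht (fun x _ => cm_Z3 x t) (fun x _ hx => cm_Z2 hx t) (fun x _ hx => cm_Z1 hx t)
    fun x _ hx => cm_one hx t)

theorem le_Q1 : E ≤ Q1 K := by
  have i1 := h.invZ1 he e0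
  obtain ⟨g, hg, gn⟩ := h.exg
  obtain ⟨a, ha, an⟩ := h.moves h.leZ2 (fun n _ x hx => Z1_le (cm_Z1 hx n)) (h.not_invZ2 he e0) hg gn
  obtain ⟨D, d1, d2, d3, d4⟩ : ∃ D, Z1 K ≤ D ∧ D ≤ Z2 K ∧ Y ≤ stab E D ∧
      ∀ x ∈ Z2 K, (∀ α ∈ Y, x⁻¹ * fn α x ∈ Z1 K) → x ∈ D := by
    have l : Z1 K ≤ fxs Y h.leZ2 i1 fun t _ => norm_Z1 t := fun z hz =>
      ⟨Z1_le hz, fun α hα => mul_mem (inv_mem hz) (stab_maps (i1 hα) hz)⟩
    exact ⟨_, l, fun _ m => m.1, fxs_stab _ _ _ l, fun x hx m => ⟨hx, m⟩⟩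
  have k1 : ∀ t ∈ NS ⊤ E, cm (fn g a) t ∈ D → t ∈ E := fun t ht m => by_contra fun tn => an (by
    simpa using mul_mem ha (d2 (h.key d3 (h.leZ2 ha) (fun n _ => d1 (cm_Z1 ha n)) hg gn ht tn m g hg)))
  have k2 : ∀ b ∈ Z2 K, ∀ t ∈ NS ⊤ E, t ∉ E → cm (fn g b) t ∈ Z1 K → b ∈ D := fun b hb t ht tn m =>
    d4 b hb (h.key i1 (h.leZ2 hb) (fun n _ => cm_Z1 hb n) hg gn ht tn m)
  have k3 : ∀ b ∈ Z2 K, ∀ x ∈ E, cm (fn g b) x ∈ Z1 K := fun b hb x hx => by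
    rw [← fn_fn_inv g x, ← fn_cm g (h.leZ2 hb) (fn_mem _ hx)]
    exact stab_maps (i1 hg) (cm_Z1 hb _)
  have k4 : ∀ b ∈ Z2 K, fn g a * fn g b = fn g b * fn g a := fun b hb => by
    rw [← mulOn_fn g (h.leZ2 ha) (h.leZ2 hb), sU_comm (Z2_le hb) ha.1, mulOn_fn g (h.leZ2 hb) (h.leZ2 ha)]
  have k5 : ∀ v ∈ Z2 K, ∀ d ∈ D, v.u = d.u → v ∈ D := fun v hv d hd e => by
    simpa using mul_mem hd (d1 (Z1_of (mul_mem (inv_mem (d2 hd)) hv) (by
      simp [e, (d2 hd).1, (d2 hd).2.2.1])) : d⁻¹ * v ∈ D)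
  have k6 : ∀ u u' : K, fn g (xu (u' - u)) = (fn g (xu u))⁻¹ * fn g (xu u') := fun u u' => by
    rw [← (mulOn_fn g).map_inv_mul (h.leZ2 (xu_mem u)) (h.leZ2 (xu_mem u'))]
    congr 1; ext <;> simp [xu]; ring
  have w1 := fn_mem g (h.leZ2 ha)
  by_cases l : Z3 K ≤ E
  · have n3 : ∀ t, t ∈ NS ⊤ E := fun t => h.mem_NS trivial fun x _ => l (cm_Z3 x t)
    have z3 : ∀ b ∈ Z2 K, fn g b ∈ Z3 K := fun b hb => by
      obtain ⟨c, c0, hc⟩ := exists_sk (K := K)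
      obtain ⟨t, t1, t2, t3⟩ := exists_Z3 (K := K) (c := 0) (by simp) 1
      have e := (k3 b hb _ (l (sU_le (xc_mem hc)))).2.2.2.2
      rw [cm_u3' _ (sU_le (xc_mem hc))] at e
      exact ⟨by simpa [xc, c0] using e, by simpa [cm_u3' _ t1, t2, t3] using (k3 b hb _ (l t1)).2.2.2.2⟩
    have z2 : ∀ b ∈ Z2 K, (fn g b).r = 0 → fn g b ∈ Z2 K := fun b hb r0 =>
      ⟨(z3 b hb).1, (z3 b hb).2, r0, by simpa [cm_u3 (z3 b hb), r0, e0] using (k3 b hb e he).2.2.2.2⟩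
    have r0 : (fn g a).r ≠ 0 := fun e => an (z2 a ha e)
    have d5 : ∀ d ∈ D, d.u = 0 := fun d hd => by
      obtain ⟨t, t1, t2, -⟩ := exists_el' 0 (star (d.u / (fn g a).r)) 0 0
      have e1 : (cm (fn g a) t).u = d.u := by rw [cm_u3 (z3 a ha), t1, t2, star_star]; field_simp; ring
      exact e1 ▸ (k3 a ha t (k1 t (n3 t) (k5 _ (cm_Z2 (z3 a ha) t) d hd e1))).2.2.2.2
    obtain ⟨t, ht, tn⟩ := h.ext
    obtain ⟨u, n⟩ := exists_not_real (f := fun u => (fn g (xu u)).r * star (fn g a).r) fun u u' e => by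
      refine (sub_eq_zero.1 (d5 _ (k2 _ (xu_mem _) t ht tn (cm_Z1 (z2 _ (xu_mem _) ?_) t)))).symm
      simp [k6, (z3 _ (xu_mem u)).1, mul_right_cancel₀ (star_ne_zero.2 r0) e]
    exact (n (by rw [star_mul', star_star, ← ((Q2_comm (z3 a ha).1 (z3 _ (xu_mem u)).1).1 (k4 _ (xu_mem u))).2.2,
      mul_comm])).elim
  obtain ⟨t0, t1, tn⟩ := SetLike.not_le_iff_exists.1 l
  have b0 : (fn g a).b = 0 := by_contra fun b0 => by
    have b1 := star_ne_zero.2 b0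
    have d5 : ∀ d ∈ D, d.u = 0 := fun d hd => by
      obtain ⟨t, t1, t2, t3⟩ := exists_Z3 (c := 0) (by simp) (-d.u / star (fn g a).b)
      have e1 : (cm (fn g a) t).u = d.u := by rw [cm_u3' _ t1, t2, t3]; field_simp; ring
      exact e1 ▸ (k3 a ha t (k1 t (h.nZ3 t1) (k5 _ (cm_Z2' _ t1) d hd e1))).2.2.2.2
    obtain ⟨u, n⟩ := exists_not_real (f := fun u => (fn g (xu u)).b * star (fn g a).b) fun u u' e => by
      have e1 : (fn g (xu (u' - u))).b = 0 := by simp [k6, mul_right_cancel₀ b1 e]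
      refine (sub_eq_zero.1 (d5 _ (k2 _ (xu_mem _) t0 (h.nZ3 t1) tn (cm_33 ⟨?_, e1⟩ t1)))).symm
      simpa [e1, b0] using (comm_r (k4 _ (xu_mem (u' - u)))).symm
    exact n (by rw [star_mul', star_star, ← comm_c (k4 _ (xu_mem u)), mul_comm])
  have s0 : (fn g a).s ≠ 0 := fun s0 => tn (k1 t0 (h.nZ3 t1) (d1 (cm_33 ⟨s0, b0⟩ t1)))
  have l1 : ∀ x ∈ E, x.b = 0 := fun x hx => by simpa [cm_r, b0, s0] using (k3 a ha x hx).2.2.1
  have l2 : ∀ x ∈ E, x.s * (fn g a).c = (fn g a).s * x.c := fun x hx => by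
    have := (k3 a ha x hx).2.2.2.2
    simp only [cm_u, b0, l1 x hx, star_zero] at this
    linear_combination this
  refine fun x hx => ⟨l1 x hx, by_contra fun x0 => ?_⟩
  have c0 : (fn g a).c ≠ 0 := fun e => mul_ne_zero s0 x0 (by rw [← l2 x hx, e, mul_zero])
  have hc := c_sk b0
  generalize fn g a = w at *
  have m : ∀ y ∈ E, cm y (xs (w.s / w.c)) ∈ Z2 K ∧ (cm y (xs (w.s / w.c))).u = y.s := fun y hy =>
    ⟨⟨cm_s .., cm_b .., by simp [cm_r, xs, l1 y hy], by simp [cm_c, xs]⟩, by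
      simp only [cm_u, xs, l1 y hy, star_zero]; field_simp; linear_combination -l2 y hy⟩
  have i2 : Y ≤ stab E (CS E E) := stab_of_char CS_le (stab_self.ge.trans' le_top) le_stab_top le_stab_bot fun x _ =>
    and_congr_right fun _ => ⟨fun m y hy _ => mem_bot.2 (cm_eq_one.2 (m y hy).symm), fun m y hy =>
      (cm_eq_one.1 (m y hy trivial)).symm⟩
  have := h.ch3 i1 i2 (h.mem_NS trivial fun y hy => h.leZ2 (m y hy).1)
    (fun y hy => ⟨h.leZ2 (m y hy).1, fun v hv => (Z2_comm (m y hy).1).2 (by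
      have e1 := congrArg star (l2 y hy)
      have e2 := congrArg star (l2 v hv)
      simp only [star_mul', hc, c_sk (l1 y hy), c_sk (l1 v hv)] at e1 e2
      rw [(m y hy).2]
      refine mul_left_cancel₀ (mul_ne_zero c0 c0) ?_
      linear_combination -v.s * w.c * e1 + star w.s * y.c * l2 v hv + y.s * w.c * e2 - star w.s * v.c * l2 y hy)⟩)
    (fun y hy m1 => Z1_of (m y hy).1 ((m y hy).2.trans (s_zero fun b hb => (m1.2 b (h.leZ2 hb)).symm)))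
    fun y _ hy => cm_one hy _
  exact s0 (by simpa [xs, c0] using l2 _ this)

end Mn

theorem ess_two [Fact p.Prime] [Uf K] {F : FusionSystem (⊤ : Subgroup (Su K))} (hF : Sat F p)
    (hE : F.IsEssential p E) : E = Q1 K ∨ E = Q2 K := by
  obtain ⟨Y, M, h⟩ := exists_mn hF hE
  refine or_iff_not_imp_right.2 fun n => ?_
  obtain ⟨e, he, e0⟩ := SetLike.not_le_iff_exists.1 (mt h.eq_Q2 n)
  exact h.eq_Q1 he e0 (h.le_Q1 he e0)

end CF.FusU
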