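import Cfsg.Agent.FusU.D
import Cfsg.Agent.Coprime.Glauberman

/-! Automorphisms of a Sylow `p`-subgroup of `SU₅(q)`; normalized fusion systems. -/

set_option autoImplicit false
set_option linter.style.haveILetI false

namespace CF.FusU

open Cfsg Cfsg.FusionSystem Subgroup CF.Fus CF.FusD Function Su

variable {K : Type*} [Field K] [StarRing K] [Uf K] {x y z t a : Su K} {f : Su K → Su K} {α β γ δ : K}
  {σ τ : K ≃+* K}

/-- diagonal and field automorphisms -/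
def dg (α β : K) (τ : K ≃+* K) : Su K →* Su K := MonoidHom.mk' (fun x =>
  ⟨α * τ x.s, β * τ x.b, β * star β * τ x.c, α * β * τ x.r, α * β * star β * τ x.u,
    α * star α * β * star β * τ x.z, by simp [← Uf.aut τ]; simp [Uf.aut]; ring, by simp [← Uf.aut τ]; simp [Uf.aut]; ring⟩)
  fun x y => by ext <;> simp [Uf.aut] <;> ring

@[simp] theorem dg_s : (dg α β τ x).s = α * τ x.s := rfl
@[simp] theorem dg_b : (dg α β τ x).b = β * τ x.b := rfl
@[simp] theorem dg_c : (dg α β τ x).c = β * star β * τ x.c := rfl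
@[simp] theorem dg_r : (dg α β τ x).r = α * β * τ x.r := rfl
@[simp] theorem dg_u : (dg α β τ x).u = α * β * star β * τ x.u := rfl
@[simp] theorem dg_z : (dg α β τ x).z = α * star α * β * star β * τ x.z := rfl

theorem dg_dg (x : Su K) : dg α β σ (dg γ δ τ x) = dg (α * σ γ) (β * σ δ) (σ * τ) x := by
  ext <;> simp [Uf.aut, RingAut.mul_apply] <;> ring

theorem dg_one (x : Su K) : dg 1 1 1 x = x := by ext <;> simp

theorem dg_inv (hα : α ≠ 0) (hβ : β ≠ 0) (x : Su K) : dg (τ⁻¹ α⁻¹) (τ⁻¹ β⁻¹) τ⁻¹ (dg α β τ x) = x := by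
  rw [dg_dg, ← map_mul, ← map_mul, inv_mul_cancel₀ hα, inv_mul_cancel₀ hβ, map_one, inv_mul_cancel, dg_one]

theorem piso_dg (hα : α ≠ 0) (hβ : β ≠ 0) : PIso (dg α β τ) ⊤ ⊤ :=
  piso_self_of_maps (mulOn_hom _ ⊤) (fun _ _ _ _ e => LeftInverse.injective (dg_inv hα hβ) e) fun _ _ => trivial

theorem Z2_of (h : ∀ y, cm x y ∈ Z1 K) : x ∈ Z2 K := by
  obtain ⟨y, y1, y2, -⟩ := exists_el' (K := K) 0 1 0 0
  have a1 : x.b = 0 := by simpa [cm_r, xs] using (h (xs 1)).2.2.1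
  have a2 : x.s = 0 := by simpa [cm_r, y1, y2] using (h y).2.2.1
  exact ⟨a2, a1, by simpa [cm_u3 ⟨a2, a1⟩, y1, y2] using (h y).2.2.2.2,
    by simpa [cm_u3 ⟨a2, a1⟩, xs] using (h (xs 1)).2.2.2.2⟩

theorem Z3_of (h : ∀ y, cm x y ∈ Z2 K) : x ∈ Z3 K := by
  obtain ⟨y, y1, y2, -⟩ := exists_el' (K := K) 0 1 0 0
  exact ⟨by simpa [cm_r, y1, y2] using (h y).2.2.1, by simpa [cm_r, xs] using (h (xs 1)).2.2.1⟩

section
variable (h : PIso f ⊤ ⊤)
include h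

omit [Uf K] in
theorem pm (x y : Su K) : f (x * y) = f x * f y := h.mul trivial trivial

omit [Uf K] in
theorem pc (x y : Su K) : f (cm x y) = cm (f x) (f y) := map_cm h.mul trivial trivial

theorem map_Z1 (hz : z ∈ Z1 K) : f z ∈ Z1 K := cen_Q1 fun y _ => by
  obtain ⟨t, -, rfl⟩ := h.surj (mem_top y)
  rw [← pm h, ← pm h, Z1_comm hz]

theorem map_Z2 (hz : z ∈ Z2 K) : f z ∈ Z2 K := Z2_of fun y => by
  obtain ⟨t, -, rfl⟩ := h.surj (mem_top y)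
  exact pc h z t ▸ map_Z1 h (cm_Z1 hz t)

theorem map_Z3 (hz : z ∈ Z3 K) : f z ∈ Z3 K := Z3_of fun y => by
  obtain ⟨t, -, rfl⟩ := h.surj (mem_top y)
  exact pc h z t ▸ map_Z2 h (cm_Z2 hz t)

theorem map_Q2 (hz : z ∈ Q2 K) : f z ∈ Q2 K := s_zero fun a ha => by
  rw [← h.apply_pinv (mem_top a), ← pm h, ← pm h, sU_comm (Z2_le (map_Z2 h.symm ha)) hz]

theorem map_sU (hz : z ∈ sU K) : f z ∈ sU K := cen_Q2 (map_Q2 h hz.1) fun a ha => by
  rw [← h.apply_pinv (mem_top a), ← pm h, ← pm h, sU_comm hz (map_Q2 h.symm ha)]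

theorem exists_dg (h1 : ∀ x ∈ Q1 K, f x ∈ Q1 K) :
    ∃ (α β : K) (τ : K ≃+* K), α ≠ 0 ∧ β ≠ 0 ∧ ∀ x, (f x).s = α * τ x.s ∧ (f x).b = β * τ x.b := by
  have i : ∀ x y, f (x⁻¹ * y) = (f x)⁻¹ * f y := fun x y => h.mul.map_inv_mul trivial trivial
  obtain ⟨A, hA⟩ : ∃ A : K → K, ∀ x, (f x).s = A x.s := ⟨fun s => (f (xs s)).s, fun x => by
    simpa [i, neg_add_eq_zero] using mem_Q2.1 (map_Q2 h (z := x⁻¹ * xs x.s) (by simp [mem_Q2, xs]))⟩
  choose e e1 e2 e3 e4 using fun b : K => exists_el' 0 b 0 0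
  obtain ⟨B, hB⟩ : ∃ B : K → K, ∀ x, (f x).b = B x.b := ⟨fun b => (f (e b)).b, fun x => by
    simpa [i, pm h, neg_add_eq_zero, (h1 _ (xs_mem _)).1] using
      (map_Z3 h (z := x⁻¹ * (xs x.s * e x.b)) (by simp [mem_Z3, xs, e1, e2])).2⟩
  have a0 : A 0 = 0 := by rw [← one_s, ← hA, h.mul.map_one]
  have b0 : B 0 = 0 := by rw [← one_b, ← hB, h.mul.map_one]
  have k : ∀ s b s' b', s * b = s' * b' → A s * B b = A s' * B b' := fun s b s' b' q => by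
    have := (map_sU h (z := (cm (xs s) (e b))⁻¹ * cm (xs s') (e b')) (by simp [mem_sU, cm_r, xs, e1, e2, q])).2.2
    simp only [i, pc h, mul_r, inv_r, inv_s, cm_s, cm_b, cm_r, hA, hB, xs, e1, e2, a0, b0] at this
    linear_combination this
  have a1 : A 1 ≠ 0 := fun c => by
    have := map_Q2 h.symm (z := f (xs 1)) ((hA _).trans c)
    rw [h.pinv_apply trivial] at this
    exact one_ne_zero (mem_Q2.1 this)
  have b1 : B 1 ≠ 0 := fun c => by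
    have := map_Z3 h.symm (z := f (e 1)) ⟨map_Q2 h (e1 1), (hB _).trans (by rw [e2, c])⟩
    rw [h.pinv_apply trivial] at this
    exact one_ne_zero ((e2 1).symm.trans this.2)
  let τ : K →+* K := ⟨⟨⟨fun s => A s / A 1, div_self a1⟩, fun s t => by
    field_simp
    refine mul_right_cancel₀ b1 ?_
    linear_combination A 1 * k (s * t) 1 s t (mul_one _) + A s * k 1 t t 1 (mul_comm _ _)⟩, by simp [a0], fun s t => by
      have := congrArg Su.s (pm h (xs s) (xs t))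
      simp only [hA, mul_s, xs] at this
      simp only [this, add_div]⟩
  refine ⟨A 1, B 1, RingEquiv.ofBijective τ (Finite.injective_iff_bijective.1 τ.injective), a1, b1, fun x => ⟨?_, ?_⟩⟩
  · change _ = A 1 * (A x.s / A 1)
    rw [hA]; field_simp
  · change _ = B 1 * (A x.b / A 1)
    rw [hB]; field_simp
    linear_combination k 1 x.b x.b 1 (mul_comm _ _)

variable (h1 : ∀ x, (f x).s = x.s ∧ (f x).b = x.b)
include h1

theorem triv3 (hx : x ∈ Z3 K) : x⁻¹ * f x ∈ Z2 K := by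
  obtain ⟨t, e⟩ := exists_sk_eq (one_ne_zero (α := K)) (c_sk hx.2)
  obtain ⟨a, a1, a2, -⟩ := exists_el' (K := K) 0 1 0 0
  obtain ⟨b, b1, b2, -⟩ := exists_el' x.r t 0 0
  have m := map_Z2 h (z := (cm a b)⁻¹ * x) (by
    simp [mem_Z2, cm_c, cm_r, a1, a2, b1, b2, hx.1, hx.2, ← e])
  rw [h.mul.map_inv_mul trivial trivial, pc h] at m
  simp only [mem_Z2, mul_s, mul_b, mul_r, mul_c, inv_s, inv_b, inv_r, inv_c, cm_s, cm_b, cm_c, cm_r, h1, a1, a2, b1, b2,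
    hx.1, hx.2, star_zero, star_one] at m e ⊢
  exact ⟨by ring, by ring, by linear_combination m.2.2.1, by linear_combination m.2.2.2 + e⟩

theorem triv2 (hx : x ∈ Z2 K) : x⁻¹ * f x ∈ Z1 K := by
  obtain ⟨a, a1, a2, a3⟩ := exists_Z3 (c := 0) (by simp) x.u
  obtain ⟨b, b1, b2, -⟩ := exists_el' (K := K) 0 1 0 0
  have m := (map_Z1 h (z := (cm a b)⁻¹ * x) (Z1_of (mul_mem (inv_mem (cm_Z2 a1 b)) hx) (by
    simp [cm_u3 a1, a3, b1, b2, hx.2.1]))).2.2.2.2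
  have e := (triv3 h h1 a1).2.2.1
  rw [h.mul.map_inv_mul trivial trivial, pc h] at m
  refine Z1_of (mul_mem (inv_mem hx) (map_Z2 h hx)) ?_
  simp only [mul_u, mul_r, inv_u, inv_s, inv_r, cm_s, cm_b, cm_u3 (map_Z3 h a1), h1, b1, b2, hx.1, hx.2.1, a1.1, a1.2, a3,
    star_zero, star_one] at m e ⊢
  linear_combination m + e

theorem triv1 (hx : x ∈ Z1 K) : f x = x := by
  obtain ⟨a, ha, rfl⟩ := exists_cm_Z2 (x := xs 1) one_ne_zero hx
  have e := (triv2 h h1 ha).2.2.2.2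
  refine Z1_ext (map_Z1 h hx) hx ?_
  simp only [mul_u, inv_u, inv_s, inv_r, ha.1, ha.2.2.1] at e
  rw [pc h, cm_z2' _ (map_Z2 h ha), cm_z2' _ ha, (h1 _).1, show (f a).u = a.u by linear_combination e]

end

variable {p : ℕ} [Fact p.Prime] {E F : FusionSystem (⊤ : Subgroup (Su K))}

/-- automorphisms which are trivial modulo the derived subgroup -/
abbrev Tr (K : Type*) [Field K] [StarRing K] : Subgroup (MulAut (⊤ : Subgroup (Su K))) := trivOn ⊤ ⊤ (Z3 K)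

theorem mem_Tr {φ : MulAut (⊤ : Subgroup (Su K))} : φ ∈ Tr K ↔ ∀ x, (fn φ x).s = x.s ∧ (fn φ x).b = x.b :=
  ⟨fun h x => by simpa [mem_Z3, add_eq_zero_iff_eq_neg'] using h.2 x trivial trivial, fun h =>
    ⟨mem_stab_of_maps le_top fun _ => map_Z3 (piso_fn φ), fun x _ _ => by simp [mem_Z3, h]⟩⟩

theorem pg_Tr (hS : IsPGroup p (⊤ : Subgroup (Su K))) : IsPGroup p (Tr K) := by
  refine isPGroup_of_coprime fun φ hφ c => aut_ext fun x hx => (fix_of_chain hS c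
    (fun j => match j with | 0 => Z1 K | 1 => Z2 K | 2 => Z3 K | _ => ⊤)
    (fun x _ => triv1 (piso_fn φ) (mem_Tr.1 hφ)) 3 (fun j hj => ?_) x hx trivial).trans (fn_one x).symm
  interval_cases j
  exacts [fun x _ => triv2 (piso_fn φ) (mem_Tr.1 hφ), fun x _ => triv3 (piso_fn φ) (mem_Tr.1 hφ), hφ.2]

theorem inn_of_triv (hF : Sat F p) (hf : Mor F ⊤ f) (h1 : ∀ x, (f x).s = x.s ∧ (f x).b = x.b) :
    ∃ t, ∀ x, f x = t * x * t⁻¹ := by
  obtain ⟨φ, hφ, e⟩ := hf.iso_top.exists_aut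
  obtain ⟨k, hk⟩ := isPGroup_iff_mem.1 (pg_Tr hF.pg) φ (mem_Tr.2 fun x => by rw [e x trivial]; exact h1 x)
  obtain ⟨t, -, rfl⟩ := mem_Inn.1 (hF.mem_Inn_top hφ hk)
  exact ⟨t, fun x => by rw [← e x trivial, fn_cA (le_normalizer (mem_top t)) trivial]⟩

/-- the group of diagonal and field automorphisms -/
def Dg (K : Type*) [Field K] [StarRing K] [Uf K] : Subgroup (MulAut (⊤ : Subgroup (Su K))) where
  carrier := {φ | ∃ α β τ, α ≠ 0 ∧ β ≠ 0 ∧ ∀ x, fn φ x = dg α β τ x}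
  one_mem' := ⟨1, 1, 1, one_ne_zero, one_ne_zero, fun x => by rw [fn_one, dg_one]⟩
  mul_mem' := by
    rintro φ ψ ⟨α, β, σ, a0, b0, e⟩ ⟨γ, δ, τ, c0, d0, e'⟩
    exact ⟨_, _, _, mul_ne_zero a0 (σ.map_ne_zero_iff.2 c0), mul_ne_zero b0 (σ.map_ne_zero_iff.2 d0), fun x => by
      rw [fn_mul, e, e', dg_dg]⟩
  inv_mem' := by
    rintro φ ⟨α, β, τ, a0, b0, e⟩
    exact ⟨_, _, τ⁻¹, τ⁻¹.map_ne_zero_iff.2 (inv_ne_zero a0), τ⁻¹.map_ne_zero_iff.2 (inv_ne_zero b0), fun x => by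
      rw [← dg_inv a0 b0 (fn φ⁻¹ x), ← e, fn_fn_inv]⟩

theorem map_Q1 (hF : Sat F p) (h1 : F.IsEssential p (Q1 K)) (i : FIso F f E) (hE : Sat E p) : img f (Q1 K) = Q1 K := by
  refine (ess_two hE (i.ess hF h1)).resolve_right fun e => ?_
  obtain ⟨c, c0, hc⟩ := exists_sk (K := K)
  obtain ⟨x, hx, e1⟩ := (i.piso.mul.mono le_top).mem_img.1 (e.ge (sU_le (xc_mem hc)).1)
  have := map_Z1 i.piso (cen_Q1 (x := x) fun y hy => i.piso.inj trivial trivial (by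
    rw [pm i.piso, pm i.piso, e1, sU_comm (xc_mem hc) (e.le (mem_img_of_mem hy))]))
  rw [e1] at this
  exact c0 this.2.2.2.1

theorem map_Q2' (i : FIso F f E) : img f (Q2 K) = Q2 K :=
  (piso_self_of_maps (i.piso.mul.mono le_top) (fun _ _ _ _ => i.piso.inj trivial trivial)
    fun _ => map_Q2 i.piso).img_eq

/-- normalized systems -/
structure Nm (F : FusionSystem (⊤ : Subgroup (Su K))) (p : ℕ) : Prop where
  sat : Sat F p
  e1 : F.IsEssential p (Q1 K)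
  e2 : F.IsEssential p (Q2 K)
  top : ∀ f, Mor F ⊤ f → ∃ t α β τ, α ≠ 0 ∧ β ≠ 0 ∧ Mor F ⊤ (dg α β τ) ∧ ∀ x, f x = t * dg α β τ x * t⁻¹

theorem exists_nm (hF : Sat F p) (h1 : F.IsEssential p (Q1 K)) (h2 : F.IsEssential p (Q2 K)) :
    ∃ (E : FusionSystem (⊤ : Subgroup (Su K))) (f : Su K → Su K), FIso F f E ∧ Nm E p := by
  obtain ⟨H, a1, -, a2, a3⟩ := CF.Solv.exists_complement_of_coprime (Inn_le_autGroup F le_rfl) (Inn_norm _)
    (CF.Coprime.coprime_card_of_isPGroup (isPGroup_Inn hF.pg) hF.syl_top.coprime_relIndex).symm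
  haveI := (pg_Tr hF.pg).isNilpotent
  obtain ⟨k, -, hk⟩ := CF.Coprime.exists_conj_mem_of_mul H (Tr K) (fun φ _ => le_norm_trivOn
    ⟨fun _ => Iff.rfl, mem_stab_of_maps le_top fun _ => map_Z3 (piso_fn φ)⟩)
    (CF.Coprime.coprime_card_of_isPGroup (pg_Tr hF.pg) (a3 ▸ hF.syl_top.coprime_relIndex)) (.inr inferInstance) (Dg K)
    fun φ hφ => by
      obtain ⟨α, β, τ, a0, b0, e⟩ := exists_dg (piso_fn φ) fun x hx =>
        (map_Q1 hF h1 (mor_fn le_rfl (a1 hφ)).fiso hF).le (mem_img_of_mem hx)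
      obtain ⟨ψ, e'⟩ := (piso_dg (τ := τ) a0 b0).exists_aut
      refine ⟨φ * ψ⁻¹, mem_Tr.2 fun x => ?_, α, β, τ, a0, b0, fun x => by simpa using e' x trivial⟩
      rw [fn_mul, (e _).1, (e _).2, ← dg_s (β := β), ← dg_b (α := α), ← e' _ trivial, fn_fn_inv]
      exact ⟨rfl, rfl⟩
  obtain ⟨E, i⟩ := exists_fiso F (piso_fn k⁻¹)
  have s := i.sat' hF
  refine ⟨E, _, i, s, map_Q1 hF h1 i s ▸ i.ess hF h1, map_Q2' i ▸ i.ess hF h2, fun f hf => ?_⟩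
  obtain ⟨g, g1, g2⟩ := i.pull le_rfl (f' := f) (by rwa [i.img_eq])
  obtain ⟨φ, hφ, e⟩ := g1.iso_top.exists_aut
  obtain ⟨_, c1, ψ, c2, rfl⟩ := (mem_sup_of_norm' (Inn_norm H)).1 (a2.ge hφ)
  obtain ⟨t, -, rfl⟩ := mem_Inn.1 c1
  obtain ⟨α, β, τ, a0, b0, d⟩ := hk ψ c2
  refine ⟨fn k⁻¹ t, α, β, τ, a0, b0, (i.symm' fun x _ => fn_fn_inv k x).mor_of le_rfl (fun _ _ => trivial)
    ((mor_fn le_rfl (a1 c2)).mono le_top) fun x _ => by rw [← d, fn_mul, fn_mul, fn_fn_inv], fun x => ?_⟩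
  rw [← fn_inv_fn k x, g2 _ trivial, ← e _ trivial, fn_mul, fn_cA (le_normalizer (mem_top t)) trivial,
    (mulOn_fn k⁻¹).map_conj trivial trivial, ← d, fn_mul, fn_mul, fn_fn_inv]

end CF.FusU
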