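import Cfsg.Agent.FusU.E

/-! Groups acting on a three-dimensional unitary space with the unitriangular group as a Sylow subgroup. -/

set_option autoImplicit false
set_option linter.style.haveILetI false

namespace CF.FusU

open Subgroup CF.Fus CF.FusD Function

variable {K : Type*} [Field K] [StarRing K] {σ γ a b c d s u : K} {v w : K × K × K}

/-- the unitriangular group -/
def tu (σ γ : K) (v : K × K × K) : K × K × K := (v.1, v.2.1 + v.1 * σ, v.2.2 + v.1 * γ - v.2.1 * star σ)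

/-- the alternating form -/
def om (v w : K × K × K) : K := v.1 * star w.2.2 + v.2.1 * star w.2.1 + v.2.2 * star w.1 -
  (w.1 * star v.2.2 + w.2.1 * star v.2.1 + w.2.2 * star v.1)

/-- monomial elements -/
def mo (γ : K) (v : K × K × K) : K × K × K := (v.2.2 / γ, -(γ / star γ) * v.2.1, star γ * v.1)

/-- twisting maps -/
def nu (a b c : K) : K × K × K →+ K × K × K := AddMonoidHom.mk'
  (fun v => (v.1, v.2.1 + a * star v.1, v.2.2 + b * v.1 + c * star v.1 - a * star v.2.1)) fun v w => by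
    simp only [Prod.fst_add, Prod.snd_add, star_add, Prod.mk_add_mk, Prod.mk.injEq, true_and]
    exact ⟨by ring, by ring⟩

theorem nu_apply (a b c : K) (v : K × K × K) :
    nu a b c v = (v.1, v.2.1 + a * star v.1, v.2.2 + b * v.1 + c * star v.1 - a * star v.2.1) := rfl

theorem nu_nu (a b c : K) (v : K × K × K) : nu (-a) (-b - a * star a) (-c) (nu a b c v) = v :=
  Prod.ext rfl (Prod.ext (by simp [nu_apply]) (by simp [nu_apply]; ring))

theorem nu_nu' (a b c : K) (v : K × K × K) : nu a b c (nu (-a) (-b - a * star a) (-c) v) = v :=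
  Prod.ext rfl (Prod.ext (by simp [nu_apply]) (by simp [nu_apply]; ring))

theorem nu_tu (a b c : K) (v : K × K × K) : nu a b c (tu σ γ v) = tu σ γ (nu a b c v) :=
  Prod.ext rfl (Prod.ext (by simp [nu_apply, tu]; ring) (by simp [nu_apply, tu]; ring))

theorem om_nu (h1 : 2 * a = 0) (h2 : star b = a * star a - b) (v w : K × K × K) :
    om (nu a b c v) (nu a b c w) = om v w := by
  have h3 : 2 * star a = 0 := by simpa using congrArg star h1
  simp only [om, nu_apply, star_add, star_sub, star_mul', star_star, h2]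
  linear_combination (star v.1 * star w.2.1 - star v.2.1 * star w.1) * h1 + (v.2.1 * w.1 - v.1 * w.2.1) * h3

/-- the last coordinate line -/
def sW (K : Type*) [Field K] : AddSubgroup (K × K × K) where
  carrier := {v | v.1 = 0 ∧ v.2.1 = 0}
  zero_mem' := ⟨rfl, rfl⟩
  add_mem' := fun {v w} h k => by simp_all
  neg_mem' := fun {v} h => by simp_all

theorem mem_sW : v ∈ sW K ↔ v.1 = 0 ∧ v.2.1 = 0 := Iff.rfl
theorem mk_sW (u : K) : ((0, 0, u) : K × K × K) ∈ sW K := ⟨rfl, rfl⟩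
theorem eq_sW (h : v ∈ sW K) : v = (0, 0, v.2.2) := Prod.ext h.1 (Prod.ext h.2 rfl)
theorem tu_sW (h : v ∈ sW K) : tu σ γ v = v := by rw [eq_sW h]; simp [tu]
theorem om_sW (h : w ∈ sW K) (v : K × K × K) : om v w = v.1 * star w.2.2 - w.2.2 * star v.1 := by
  simp [om, h.1, h.2]

theorem zero_of_two (h : a * star b ≠ b * star a) (h1 : s * star a = a * star s) (h2 : s * star b = b * star s) :
    s = 0 :=
  (mul_eq_zero.1 (show s * (a * star b - b * star a) = 0 by linear_combination a * h2 - b * h1)).resolve_right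
    (sub_ne_zero.2 h)

variable [Uf K]

theorem lin_zero (h : ∀ s : K, a * s = b * star s) : b = 0 := by
  obtain ⟨e, he⟩ := Uf.nr (K := K)
  have h1 := h 1
  rw [star_one] at h1
  exact (mul_eq_zero.1 (show b * (star e - e) = 0 by linear_combination e * h1 - h e)).resolve_right
    (sub_ne_zero.2 he)

theorem om_nd (h : ∀ w, om v w = 0) : v = 0 :=
  Prod.ext (eq_zero_of_real fun t => by simpa [om, sub_eq_zero] using h (0, 0, t))
    (Prod.ext (eq_zero_of_real fun t => by simpa [om, sub_eq_zero] using h (0, t, 0))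
      (eq_zero_of_real fun t => by simpa [om, sub_eq_zero] using h (t, 0, 0)))

theorem exists_iso (h : v.1 ≠ 0) : ∃ σ γ, star γ = -γ - σ * star σ ∧ γ ≠ 0 ∧ om v (tu σ γ v) = 0 := by
  by_cases h2 : (2 : K) = 0
  · exact ⟨0, 1, by rw [star_one]; linear_combination h2, one_ne_zero, by simp [om, tu]; ring⟩
  have h3 := star_ne_zero.2 h
  have e : star (-1 / 2 + (v.2.1 * star v.1 - v.1 * star v.2.1) / (v.1 * star v.1)) =
      -(-1 / 2 + (v.2.1 * star v.1 - v.1 * star v.2.1) / (v.1 * star v.1)) - 1 * star 1 := by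
    simp only [star_add, star_sub, star_div₀, star_mul', star_star, star_neg, star_one, star_ofNat]
    field_simp; ring
  refine ⟨1, _, e, fun c => by simp [c] at e, ?_⟩
  simp only [om, tu, star_add, star_sub, star_mul', star_star, e, star_one]
  field_simp; ring

variable {G : Type*} [Group G] {X T : Subgroup G} {ρ : G → K × K × K →+ K × K × K} {p : ℕ} {g k t : G}

/-- an action preserving the form, with the unitriangular group as a Sylow subgroup -/
structure Un (p : ℕ) (X T : Subgroup G) (ρ : G → K × K × K →+ K × K × K) : Prop where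
  rp : Rp X ρ
  syl : SylIn p T X
  ker : ∀ x ∈ X, (∀ v, ρ x v = v) → ∃ k, x ^ p ^ k = 1
  act : ∀ t ∈ T, ∃ σ γ, star γ = -γ - σ * star σ ∧ ∀ v, ρ t v = tu σ γ v
  onto : ∀ σ γ, star γ = -γ - σ * star σ → ∃ t ∈ T, ∀ v, ρ t v = tu σ γ v
  inv : ∀ g ∈ X, ∀ v w, om (ρ g v) (ρ g w) = om v w

namespace Un

variable (h : Un p X T ρ)
include h

omit [Uf K] in
theorem inv' (hg : g ∈ X) (v w : K × K × K) : om (ρ g v) w = om v (ρ g⁻¹ w) := by
  rw [← h.inv g hg v, h.rp.app_inv hg]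

omit [Uf K] in
theorem fixW (ht : t ∈ T) (hw : w ∈ sW K) : ρ t w = w := by
  obtain ⟨σ, γ, -, e⟩ := h.act t ht
  rw [e, tu_sW hw]

omit [Uf K] in
theorem twist (h1 : 2 * a = 0) (h2 : star b = a * star a - b) :
    Un p X T fun g => (nu (-a) (-b - a * star a) (-c)).comp ((ρ g).comp (nu a b c)) := by
  refine ⟨⟨fun g hg k hk v => by simp [nu_nu', h.rp.mul g hg k hk], fun v => by simp [h.rp.one, nu_nu]⟩, h.syl,
    fun x hx e => h.ker x hx fun v => ?_, fun t ht => ?_, fun σ γ e => ?_, fun g hg v w => ?_⟩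
  · simpa [nu_nu'] using congrArg (nu a b c) (e (nu (-a) (-b - a * star a) (-c) v))
  · obtain ⟨σ, γ, e1, e2⟩ := h.act t ht
    exact ⟨σ, γ, e1, fun v => by simp [e2, ← nu_tu, nu_nu]⟩
  · obtain ⟨t, ht, e2⟩ := h.onto σ γ e
    exact ⟨t, ht, fun v => by simp [e2, ← nu_tu, nu_nu]⟩
  · rw [← om_nu (c := c) h1 h2]
    simp [nu_nu', h.inv g hg, om_nu h1 h2]

theorem lin (hg : g ∈ X) (ha : star a = a) (v : K × K × K) : ρ g (a • v) = a • ρ g v :=
  sub_eq_zero.1 (om_nd fun w => by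
    have e : ∀ u v w : K × K × K, om (u - a • v) w = om u w - a * om v w := fun u v w => by simp [om, ha]; ring
    have := e (a • v) v (ρ g⁻¹ w)
    rw [e, h.inv' hg, h.inv' hg, ← this]
    simp [om])

omit [Uf K] in
theorem mapW (hg : g ∈ X) (ht : t ∈ T) (hn : ∃ v, ρ t v ≠ v) (h1 : g * t * g⁻¹ ∈ T) (hw : w ∈ sW K) :
    ρ g w ∈ sW K := by
  obtain ⟨σ, γ, -, e⟩ := h.act t ht
  obtain ⟨σ', γ', -, e'⟩ := h.act _ h1
  have k : ∀ v, ρ g (tu σ γ v) = tu σ' γ' (ρ g v) := fun v => by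
    rw [← e', h.rp.mul3 hg (h.syl.le ht) (inv_mem hg), h.rp.inv_app hg, e]
  rw [eq_sW hw]
  by_cases s0 : σ = 0
  · subst s0
    have g0 : γ ≠ 0 := by
      rintro rfl
      obtain ⟨v, hv⟩ := hn
      exact hv (by simp [e, tu])
    have a := k (tu 0 γ (ρ g⁻¹ (1, 0, 0)) - ρ g⁻¹ (1, 0, 0))
    rw [tu_sW ⟨by simp [tu], by simp [tu]⟩, map_sub, k, h.rp.app_inv hg] at a
    have s1 : σ' = 0 := by simpa [tu, eq_sub_iff_add_eq] using congrArg (·.2.2) a
    rw [show ((0, 0, w.2.2) : K × K × K) = tu 0 γ (w.2.2 / γ, 0, 0) - (w.2.2 / γ, 0, 0) by simp [tu, g0], map_sub, k]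
    simp [mem_sW, tu, s1]
  · have s1 := star_ne_zero.2 s0
    rw [show ((0, 0, w.2.2) : K × K × K) = tu σ γ (tu σ γ (-w.2.2 / star σ / σ, 0, 0) - (-w.2.2 / star σ / σ, 0, 0)) -
      (tu σ γ (-w.2.2 / star σ / σ, 0, 0) - (-w.2.2 / star σ / σ, 0, 0)) by simp [tu, s0, s1], map_sub, k, map_sub, k]
    simp [mem_sW, tu]

omit [Uf K] in
theorem nW (hg : g ∈ X) (hn : g ∈ normalizer (T : Set G)) [Uf K] (hw : w ∈ sW K) : ρ g w ∈ sW K := by
  obtain ⟨c, c0, hc⟩ := exists_sk (K := K)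
  obtain ⟨t, ht, e⟩ := h.onto 0 c (by simp [hc])
  exact h.mapW hg ht ⟨(1, 0, 0), by simp [e, tu, c0]⟩ (conj_mem_of_norm hn ht) hw

variable [Finite X] [CharP K p]

theorem norm (hg : g ∈ X) (h1 : ∀ w ∈ sW K, ρ g w ∈ sW K) : g ∈ normalizer (T : Set G) := by
  refine h.rp.norm_of_chn h.syl p_smul h.ker (C := sW K) (D := (AddMonoidHom.fst K (K × K)).ker) (fun _ h => h.1)
    (fun t ht => ?_) hg h1 fun v hv => eq_zero_of_real fun u => ?_
  · obtain ⟨σ, γ, -, e⟩ := h.act t ht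
    exact ⟨h.syl.le ht, fun v => by simp [e, tu, AddSubgroup.mem_prod], fun v hv => by simp [e, tu, mem_sW, show v.1 = 0 from hv],
      fun v hv => h.fixW ht hv⟩
  · have := h.inv' hg v (0, 0, u)
    rw [om_sW (mk_sW u), om_sW (h.rp.inv_maps hg h1 _ (mk_sW u)), show v.1 = 0 from hv] at this
    simpa [sub_eq_zero] using this

theorem mem_T (hg : g ∈ X) (h1 : ∀ v, ρ g v = tu σ γ v) : g ∈ T := by
  refine h.rp.mem_of_chn h.syl p_smul h.ker (C := sW K) (D := (AddMonoidHom.fst K (K × K)).ker) (fun _ h => h.1)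
    (fun t ht => ?_) ⟨hg, fun v => by simp [h1, tu, AddSubgroup.mem_prod], fun v hv => by simp [h1, tu, mem_sW, show v.1 = 0 from hv],
      fun v hv => by rw [h1, tu_sW hv]⟩
  obtain ⟨σ, γ, -, e⟩ := h.act t ht
  exact ⟨h.syl.le ht, fun v => by simp [e, tu, AddSubgroup.mem_prod], fun v hv => by simp [e, tu, mem_sW, show v.1 = 0 from hv],
    fun v hv => h.fixW ht hv⟩

variable [Fact p.Prime]

omit [CharP K p] in
theorem perp (hg : g ∈ X) (hw : w ∈ sW K) (e : (ρ g w).1 = 0) : ρ g w ∈ sW K := by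
  have r := h.rp
  obtain ⟨c, c0, hc⟩ := exists_sk (K := K)
  obtain ⟨t, ht, et⟩ := h.onto 0 c (by simp [hc])
  have l : r.fixS {ρ g w} ≤ X := fun _ h => h.1
  haveI := fin_of_le l
  obtain ⟨j, hj⟩ := isPGroup_iff_mem.1 h.syl.pg t ht
  obtain ⟨b, ⟨b0, b1⟩, b2⟩ := ((h.syl.cj (le_normalizer hg)).mono (C := r.fixS {ρ g w}) (img_le_iff.2 fun x hx =>
    ⟨mul_mem (mul_mem hg (h.syl.le hx)) (inv_mem hg), by
      rintro _ rfl
      rw [cj_apply, r.mul3 hg (h.syl.le hx) (inv_mem hg), r.inv_app hg, h.fixW hx hw]⟩) l).exists_conj_elt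
    (x := t) ⟨h.syl.le ht, by rintro _ rfl; rw [et]; exact Prod.ext rfl (by simp [tu, e])⟩ hj
  have k0 := mul_mem (inv_mem hg) b0
  have := r.inv_maps k0 (D := (· ∈ sW K)) (fun v => h.mapW k0 ht ⟨(1, 0, 0), by simp [et, tu, c0]⟩
    (by simpa [mul_assoc] using mem_img_cj.1 b2)) w hw
  rwa [mul_inv_rev, inv_inv, r.mul _ (inv_mem b0) _ hg, r.inv_fix b0 (b1 _ rfl)] at this

theorem ti (hg : g ∈ X) (hw : w ∈ sW K) (w0 : w ≠ 0) (e : (ρ g w).1 = 0) : g ∈ normalizer (T : Set G) := by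
  have r := h.rp
  by_contra gn
  have u0 : w.2.2 ≠ 0 := fun c => w0 (by rw [eq_sW hw, c]; rfl)
  obtain ⟨v, hv, v1, v2⟩ : ∃ v ∈ sW K, w.2.2 * star v.2.2 ≠ v.2.2 * star w.2.2 ∧ ρ g v ∉ sW K := by
    by_contra! c
    obtain ⟨u, hu⟩ := not_forall.1 (mt eq_zero_of_real u0)
    refine gn (h.norm hg fun v hv => by_contra fun n => n ?_)
    have a : w.2.2 * star v.2.2 = v.2.2 * star w.2.2 := by_contra fun a => n (c v hv a)
    simpa using sub_mem (c _ (add_mem hv (mk_sW u)) fun e => hu (by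
      simp only [Prod.snd_add, star_add] at e; linear_combination e - a)) (c _ (mk_sW u) hu)
  obtain ⟨σ, γ, e1, e2, e3⟩ := exists_iso (mt (h.perp hg hv) v2)
  obtain ⟨t, ht, et⟩ := h.onto σ γ e1
  have t0 := h.syl.le ht
  have k0 : g⁻¹ * t * g ∈ X := mul_mem (mul_mem (inv_mem hg) t0) hg
  have a1 : ρ (g⁻¹ * t * g) w = w := by rw [r.mul3 (inv_mem hg) t0 hg, h.fixW ht (h.perp hg hw e), r.inv_app hg]
  have z : ∀ y, om y w = 0 → om y v = 0 → y.1 = 0 := fun y h1 h2 => by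
    rw [om_sW hw, sub_eq_zero] at h1
    rw [om_sW hv, sub_eq_zero] at h2
    exact zero_of_two v1 h1 h2
  have o : ∀ x ∈ sW K, ∀ y ∈ sW K, om x y = 0 := fun x hx y hy => by simp [om_sW hy, hx.1]
  have a2 : ρ (g⁻¹ * t * g) v ∈ sW K := h.perp k0 hv (z _ (by rw [← a1, h.inv _ k0, o v hv w hw]) (by
    rw [r.mul3 (inv_mem hg) t0 hg, h.inv' (inv_mem hg), inv_inv, et]
    simp only [om] at e3 ⊢
    linear_combination -e3))
  have a3 : g⁻¹ * t * g ∈ normalizer (T : Set G) := (Subgroup.inv_mem_iff _).1 (h.norm (inv_mem k0) fun x hx =>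
    h.perp (inv_mem k0) hx (z _ (by rw [h.inv' (inv_mem k0), inv_inv, a1, o x hx w hw])
      (by rw [h.inv' (inv_mem k0), inv_inv, o x hx _ a2])))
  obtain ⟨j, hj⟩ := isPGroup_iff_mem.1 h.syl.pg t ht
  obtain ⟨b, b0, b1⟩ := (h.syl.mono (le_NS h.syl.le) NS_le).exists_conj_elt (x := g⁻¹ * t * g) ⟨k0, a3⟩ (k := j) (by
    have := conj_pow (i := p ^ j) (a := g⁻¹) (b := t)
    rw [inv_inv] at this
    rw [this, hj]; simp)
  refine gn ((Subgroup.inv_mem_iff _).1 (h.norm (inv_mem hg) fun x => h.mapW (inv_mem hg) ht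
    ⟨(1, 0, 0), by simp [et, tu, e2]⟩ ?_))
  simpa [mul_assoc] using conj_mem_of_norm' b0.2 b1

theorem onto1 (hg : g ∈ X) (gn : g ∉ normalizer (T : Set G)) (s : K) : ∃ u, (ρ g (0, 0, u)).1 = s :=
  (Finite.injective_iff_surjective (f := fun u => (ρ g (0, 0, u)).1)).1 (fun u u' e => by_contra fun n => gn
    (h.ti hg (mk_sW (u - u')) (by simp [sub_eq_zero, n]) (by
      rw [show ((0, 0, u - u') : K × K × K) = (0, 0, u) - (0, 0, u') by simp, map_sub]
      exact sub_eq_zero.2 e))) s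

theorem graph (hg : g ∈ X) (gn : g ∉ normalizer (T : Set G)) : ∃ a b c d : K, ∀ w ∈ sW K,
    (ρ g w).2 = (a * (ρ g w).1 + b * star (ρ g w).1, c * (ρ g w).1 + d * star (ρ g w).1) := by
  obtain ⟨e, he⟩ := Uf.nr (K := K)
  have h1 := sub_ne_zero.2 he
  have h2 := sub_ne_zero.2 he.symm
  obtain ⟨u, e1⟩ := h.onto1 hg gn 1
  obtain ⟨u', e2⟩ := h.onto1 hg gn e
  refine ⟨((ρ g (0, 0, u')).2.1 - star e * (ρ g (0, 0, u)).2.1) / (e - star e),
    (e * (ρ g (0, 0, u)).2.1 - (ρ g (0, 0, u')).2.1) / (e - star e),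
    ((ρ g (0, 0, u')).2.2 - star e * (ρ g (0, 0, u)).2.2) / (e - star e),
    (e * (ρ g (0, 0, u)).2.2 - (ρ g (0, 0, u')).2.2) / (e - star e), fun w hw => ?_⟩
  have a : w = ((e * star (ρ g w).1 - star e * (ρ g w).1) / (e - star e)) • (0, 0, u) +
      (((ρ g w).1 - star (ρ g w).1) / (e - star e)) • (0, 0, u') → ρ g w =
      ((e * star (ρ g w).1 - star e * (ρ g w).1) / (e - star e)) • ρ g (0, 0, u) +
      (((ρ g w).1 - star (ρ g w).1) / (e - star e)) • ρ g (0, 0, u') := fun c => by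
    rw [← h.lin hg, ← h.lin hg, ← map_add, ← c] <;>
      simp only [star_div₀, star_sub, star_mul', star_star] <;> field_simp <;> ring
  have b := a (sub_eq_zero.1 (by_contra fun n => gn (h.ti hg (sub_mem hw (by simp [mem_sW])) n (by
    rw [map_sub, map_add, h.lin hg, h.lin hg]
    · simp only [Prod.fst_sub, Prod.fst_add, Prod.smul_fst, e1, e2, smul_eq_mul]; field_simp; ring
    all_goals simp only [star_div₀, star_sub, star_mul', star_star]; field_simp; ring))))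
  generalize (ρ g w).1 = s at b
  rw [b]
  refine Prod.ext ?_ ?_ <;> simp only [Prod.snd_add, Prod.fst_add, Prod.smul_snd, Prod.smul_fst, smul_eq_mul] <;>
    field_simp <;> ring

theorem exists_g (hn : ¬ X ≤ normalizer (T : Set G)) : ∃ g ∈ X, g ∉ normalizer (T : Set G) ∧ ∃ a b c : K,
    2 * a = 0 ∧ star b = a * star a - b ∧ ∀ w ∈ sW K, ρ g w = nu a b c ((ρ g w).1, 0, 0) := by
  have r := h.rp
  obtain ⟨g, g0, gn, a, b, c, e⟩ : ∃ g ∈ X, g ∉ normalizer (T : Set G) ∧ ∃ a b c : K,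
      ∀ w ∈ sW K, ρ g w = nu a b c ((ρ g w).1, 0, 0) := by
    obtain ⟨g, hg, gn⟩ := SetLike.not_le_iff_exists.1 hn
    obtain ⟨a, b, c, d, e⟩ := h.graph hg gn
    obtain ⟨γ, hγ⟩ := exists_c (-a)
    obtain ⟨t, ht, et⟩ := h.onto _ _ hγ
    refine ⟨t * g, mul_mem (h.syl.le ht) hg, fun n => gn (by simpa using mul_mem (inv_mem (le_normalizer ht)) n), b,
      c + γ + a * star a, d + b * star a, fun w hw => ?_⟩
    rw [r.mul _ (h.syl.le ht) _ hg, et]
    exact Prod.ext rfl (Prod.ext (by simp [tu, nu_apply, e w hw]; ring) (by simp [tu, nu_apply, e w hw]; ring))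
  obtain ⟨u, e1⟩ := h.onto1 g0 gn 1
  have e2 := e _ (mk_sW u)
  rw [e1] at e2
  have hb : star b = a * star a - b := by
    refine sub_eq_zero.1 (lin_zero (a := star b - (a * star a - b)) fun s => ?_)
    obtain ⟨u', e3⟩ := h.onto1 g0 gn s
    have := h.inv g g0 (0, 0, u') (0, 0, u)
    rw [e _ (mk_sW u'), e2, e3] at this
    simp only [om, nu_apply, star_add, star_sub, star_mul', star_star, star_zero, star_one] at this
    linear_combination this
  refine ⟨g, g0, gn, a, b, c, by_contra fun n => ?_, hb, e⟩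
  have n' : 2 * star a ≠ 0 := by simpa using star_ne_zero.2 n
  obtain ⟨t, ht, et⟩ := h.onto (-4 * a) (-8 * a * star a) (by simp; ring)
  have t0 := h.syl.le ht
  have k0 : g⁻¹ * t * g ∈ X := mul_mem (mul_mem (inv_mem g0) t0) g0
  have a3 := h.ti k0 (mk_sW u) (fun c => by simp [c] at e1) (eq_zero_of_real fun u' => by
    rw [← sub_eq_zero, ← om_sW (mk_sW u'), r.mul3 (inv_mem g0) t0 g0, h.inv' (inv_mem g0), inv_inv, et, e2,
      e _ (mk_sW u')]
    simp only [om, tu, nu_apply, star_add, star_sub, star_mul', star_star, star_zero, star_one, star_neg, star_ofNat, hb]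
    ring)
  have a4 := h.nW k0 a3 (mk_sW u)
  have a5 := e _ a4
  rw [r.mul3 (inv_mem g0) t0 g0, r.app_inv g0, et, e2] at a5
  have := congrArg (·.2.1) a5
  simp only [tu, nu_apply, star_one] at this
  have h2 : (2 : K) ≠ 0 := left_ne_zero_of_mul n
  exact mul_ne_zero h2 n (by linear_combination -this)

end Un

end CF.FusU
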