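import Cfsg.Agent.FusU.F

/-! Groups acting on a three-dimensional unitary space: the monomial elements. -/

set_option autoImplicit false
set_option linter.style.haveILetI false

namespace CF.FusU

open Subgroup CF.Fus CF.FusD Function

variable {K : Type*} [Field K] [StarRing K] [Uf K] {σ γ a b c d s u : K} {v w : K × K × K}
  {G : Type*} [Group G] {X T : Subgroup G} {ρ : G → K × K × K →+ K × K × K} {p : ℕ} {g k t : G}

namespace Un

variable [Finite X] [CharP K p] [Fact p.Prime] (h : Un p X T ρ)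
include h

theorem dec (hg : g ∈ X) (e : ∀ w ∈ sW K, (ρ g w).2 = 0) (hk : k ∈ X) (kn : k ∉ normalizer (T : Set G)) :
    ∃ t ∈ T, g⁻¹ * t * k ∈ normalizer (T : Set G) := by
  obtain ⟨u, e1⟩ := h.onto1 hk kn 1
  obtain ⟨x, hx⟩ := Uf.nm ((ρ k (0, 0, u)).2.2 + star (ρ k (0, 0, u)).2.2 +
    (ρ k (0, 0, u)).2.1 * star (ρ k (0, 0, u)).2.1) (by simp; ring)
  obtain ⟨t, ht, et⟩ := h.onto (x - (ρ k (0, 0, u)).2.1)
    ((ρ k (0, 0, u)).2.1 * star (x - (ρ k (0, 0, u)).2.1) - (ρ k (0, 0, u)).2.2) (by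
      simp only [star_sub, star_mul', star_star]; linear_combination hx)
  have t0 := h.syl.le ht
  refine ⟨t, ht, h.ti (mul_mem (mul_mem (inv_mem hg) t0) hk) (mk_sW u) (fun c => by simp [c] at e1)
    (eq_zero_of_real fun u' => ?_)⟩
  rw [← sub_eq_zero, ← om_sW (mk_sW u'), h.rp.mul3 (inv_mem hg) t0 hk, h.inv' (inv_mem hg), inv_inv, et]
  simp [om, tu, e _ (mk_sW u'), e1]

theorem mono (hg : g ∈ X) (e : ∀ w ∈ sW K, (ρ g w).2 = 0) (g0 : γ ≠ 0) : ∃ m ∈ X, ∀ v, ρ m v = mo γ v := by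
  have r := h.rp
  have g1 := star_ne_zero.2 g0
  have gi := inv_mem hg
  have k : ∀ k ∈ X, (∀ w ∈ sW K, ρ k w ∈ sW K → w = 0) → k ∉ normalizer (T : Set G) := fun k hk e n =>
    one_ne_zero (congrArg (·.2.2) (e _ (mk_sW 1) (h.nW hk n (mk_sW 1))))
  have gn := k g hg fun w hw c => r.inj hg (by rw [map_zero]; exact Prod.ext c.1 (e w hw))
  have su : ∀ s, ∃ w ∈ sW K, ρ g w = (s, 0, 0) := fun s =>
    let ⟨u, hu⟩ := h.onto1 hg gn s
    ⟨_, mk_sW u, Prod.ext hu (e _ (mk_sW u))⟩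
  obtain ⟨σ, hσ⟩ := Uf.nm (-γ - star γ) (by simp; ring)
  obtain ⟨t, ht, et⟩ := h.onto σ γ (by linear_combination hσ)
  have t0 := h.syl.le ht
  have k0 : g⁻¹ * t * g ∈ X := mul_mem (mul_mem gi t0) hg
  obtain ⟨t1, a1, a2⟩ := h.dec hg e gi (by simpa using gn)
  obtain ⟨t2, b1, b2⟩ := h.dec hg e k0 (k _ k0 fun w hw c => by
    have e1 := e _ c
    rw [r.mul3 gi t0 hg, r.app_inv hg, et] at e1
    have e2 : (ρ g w).1 = 0 := by simpa [tu, e w hw, g0] using congrArg Prod.snd e1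
    exact r.inj hg (by rw [map_zero]; exact Prod.ext e2 (e w hw)))
  have y1 := mul_mem (inv_mem b1) a1
  have y0 := h.syl.le y1
  have x0 : g * (t2⁻¹ * t1) * g⁻¹ ∈ X := mul_mem (mul_mem hg y0) gi
  have x1 : ∀ s, ρ (g * (t2⁻¹ * t1) * g⁻¹) (s, 0, 0) = (s, 0, 0) := fun s => by
    obtain ⟨w, hw, e1⟩ := su s
    rw [← e1, r.mul3 hg y0 gi, r.inv_app hg, h.fixW y1 hw]
  have x2 : ∀ u, ρ (g * (t2⁻¹ * t1) * g⁻¹) (0, 0, u) = (u / γ, u / γ * σ, u) := fun u => by
    have n0 := mul_mem (inv_mem (mul_mem t0 hg)) x0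
    have e1 := e _ (h.nW n0 (by simpa [mul_assoc] using mul_mem (inv_mem b2) a2) (mk_sW u))
    have e2 := r.app_inv (mul_mem t0 hg) (ρ (g * (t2⁻¹ * t1) * g⁻¹) (0, 0, u))
    rw [← r.mul _ (inv_mem (mul_mem t0 hg)) _ x0, r.mul _ t0 _ hg, et] at e2
    have e3 : (ρ (g * (t2⁻¹ * t1) * g⁻¹) (0, 0, u)).2.2 = u := sub_eq_zero.1 (eq_zero_of_real fun s => by
      have := h.inv _ x0 (0, 0, u) (s, 0, 0)
      rw [x1] at this
      simp only [om, star_zero, star_sub] at this ⊢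
      linear_combination this)
    rw [← e2] at e3 ⊢
    simp only [tu, e1, Prod.fst_zero, Prod.snd_zero, zero_add, zero_mul, sub_zero] at e3 ⊢
    rw [e3, eq_div_of_mul_eq g0 e3]
  have x3 : ∀ y, ρ (g * (t2⁻¹ * t1) * g⁻¹) (0, y, 0) = (-y * star σ / star γ, y, 0) := fun y => by
    obtain ⟨σ', γ', -, e1⟩ := h.act _ y1
    have e2 : (ρ g⁻¹ (0, y, 0)).1 = 0 := eq_zero_of_real fun u => by
      rw [← sub_eq_zero, ← om_sW (mk_sW u), h.inv' gi, inv_inv]
      simp [om, e _ (mk_sW u)]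
    have e3 := e (tu σ' γ' (ρ g⁻¹ (0, y, 0)) - ρ g⁻¹ (0, y, 0)) ⟨by simp [tu], by simp [tu, e2]⟩
    rw [map_sub, r.app_inv hg, ← e1, ← r.mul3 hg y0 gi, Prod.snd_sub, sub_eq_zero] at e3
    refine Prod.ext (sub_eq_zero.1 (eq_zero_of_real fun u => ?_)) e3
    have := h.inv _ x0 (0, y, 0) (0, 0, u)
    rw [x2] at this
    simp only [om, e3, star_zero, star_sub, star_mul', star_div₀, star_neg, star_star] at this ⊢
    field_simp at this ⊢
    linear_combination this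
  obtain ⟨t3, c1, c2⟩ := h.onto (-σ) (star γ) (by simp; linear_combination hσ)
  obtain ⟨t4, d1, d2⟩ := h.onto (-σ * star γ / γ) (star γ) (by
    simp only [star_star, star_div₀, star_mul', star_neg]; field_simp; linear_combination hσ)
  refine ⟨_, mul_mem (mul_mem (h.syl.le c1) x0) (h.syl.le d1), fun v => ?_⟩
  rw [r.mul3 (h.syl.le c1) x0 (h.syl.le d1), d2, c2]
  generalize hv : tu (-σ * star γ / γ) (star γ) v = v'
  rw [show v' = (v'.1, 0, 0) + (0, v'.2.1, 0) + (0, 0, v'.2.2) by simp, map_add, map_add, x1, x2, x3, ← hv]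
  simp only [tu, mo, Prod.mk_add_mk, star_star, star_div₀, star_mul', star_neg, Prod.mk.injEq]
  refine ⟨?_, ?_, ?_⟩ <;> field_simp
  · linear_combination v.1 * star γ * hσ
  · linear_combination (γ * v.2.1 - star γ * v.1 * σ) * hσ
  · linear_combination (star γ * v.2.2 + γ * v.2.1 * star σ + star γ ^ 2 * v.1) * hσ

theorem main (hn : ¬ X ≤ normalizer (T : Set G))
    (hN : ∀ k ∈ X, k ∈ normalizer (T : Set G) → ∃ (σ γ α β δ : K) (τ : K ≃+* K),
      ∀ v, ρ k v = tu σ γ (α * τ v.1, β * τ v.2.1, δ * τ v.2.2)) (g0 : γ ≠ 0) :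
    ∃ m ∈ X, ∀ v, ρ m v = mo γ v := by
  obtain ⟨g, hg, -, a, b, c, h1, h2, e⟩ := h.exists_g hn
  have h' := h.twist (c := c) h1 h2
  have e' : ∀ w ∈ sW K, (nu (-a) (-b - a * star a) (-c) (ρ g (nu a b c w))).2 = 0 := fun w hw => by
    rw [show nu a b c w = w by rw [eq_sW hw]; simp [nu_apply], e w hw, nu_nu]; rfl
  obtain ⟨ε, hε⟩ := Uf.nr (K := K)
  have e0 : ε ≠ 0 := by rintro rfl; simp at hε
  have e1 := star_ne_zero.2 e0
  obtain ⟨m, m0, m1⟩ := h'.mono hg e' e0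
  obtain ⟨n, n0, n1⟩ := h'.mono hg e' one_ne_zero
  have k : ∀ v, ρ (m * n) v = nu a b c (mo ε (mo 1 (nu (-a) (-b - a * star a) (-c) v))) := fun v => by
    rw [← n1, ← m1, ← h'.rp.mul _ m0 _ n0]; simp [nu_nu']
  obtain ⟨σ, γ', α, β, δ, τ, k1⟩ := hN _ (mul_mem m0 n0) (h.norm (mul_mem m0 n0) fun w hw => by
    simp [k, mem_sW, nu_apply, mo, hw.1, hw.2])
  have k2 := fun s => (k1 (s, 0, 0)).symm.trans (k (s, 0, 0))
  simp only [tu, nu_apply, mo, Prod.mk.injEq, map_zero, star_zero, star_one, star_div₀, star_mul', star_neg, star_add,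
    star_star] at k2
  have a0 : a = 0 := by
    have := lin_zero (a := σ / ε) (b := a / star ε * (1 - ε)) fun s => by
      have := (k2 s).2.1
      rw [(k2 s).1] at this
      field_simp at this ⊢
      linear_combination this
    simpa [e1, sub_eq_zero, show 1 ≠ ε by rintro rfl; simp at hε] using this
  subst a0
  have c0 : c = 0 := by
    have := lin_zero (a := γ' / ε + b * star ε - b / ε) (b := c / star ε * (1 - star ε) * (1 + star ε)) fun s => by
      have := (k2 s).2.2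
      rw [(k2 s).1] at this
      field_simp at this ⊢
      linear_combination this
    simpa [e1, sub_eq_zero, show 1 ≠ star ε from fun c => hε (by rw [← star_star ε, ← c]; simp), show 1 + star ε ≠ 0 from fun c => hε (by
      have := congrArg star c
      simp only [star_add, star_one, star_star, star_zero] at this
      linear_combination c - this)] using this
  subst c0
  obtain ⟨t, ht, et⟩ := h.onto 0 b (by simpa using h2)
  obtain ⟨m, m0, m1⟩ := h'.mono hg e' g0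
  have t0 := h.syl.le ht
  have et' : ∀ v, ρ t v = nu 0 b 0 v := fun v => by simp [et, tu, nu_apply, mul_comm]
  refine ⟨_, mul_mem (mul_mem (inv_mem t0) m0) t0, fun v => h.rp.inj t0 ?_⟩
  rw [h.rp.mul3 (inv_mem t0) m0 t0, h.rp.app_inv t0, ← m1, et', et']
  simp only [AddMonoidHom.comp_apply, nu_nu']

end Un

end CF.FusU
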