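import Cfsg.Agent.FusU.G

/-! Saturated fusion systems on a Sylow `p`-subgroup of `SU₅(q)`: the automizers of `Q1` and `Q2`. -/

set_option autoImplicit false
set_option linter.style.haveILetI false

namespace CF.FusU

open Cfsg Cfsg.FusionSystem Subgroup CF.Fus CF.FusD Function Su

variable {K : Type*} [Field K] [StarRing K] {x y z t a : Su K} {f g : Su K → Su K} {α β γ δ μ : K}
  {P : Subgroup (Su K)}

/-- coordinates on `Q1 / Z1` -/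
def p1 (x : Su K) : K × K × K := (x.s, x.r, x.u)
/-- coordinates on `Q2 / U` -/
def p2 (x : Su K) : K × K := (x.r, x.b)

/-- the standard Weyl element for `Q1` -/
def n1 (x : Su K) : Su K := ⟨x.u, 0, 0, -x.r, x.s, x.z, by simp, by simp; ring⟩
/-- the standard Weyl element for `Q2` -/
def n2 (x : Su K) : Su K :=
  ⟨0, -x.r, x.z + x.s * star x.u, x.b, star x.u + star x.r * x.b, x.c, by simp; ring, by simp⟩

theorem n1_mem (x : Su K) : n1 x ∈ Q1 K := ⟨rfl, rfl⟩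
theorem n2_mem (x : Su K) : n2 x ∈ Q2 K := rfl
theorem mulOn_n1 : MulOn n1 (Q1 K) := fun x hx y hy => by ext <;> simp [n1, hy.1, hy.2] <;> ring
theorem mulOn_n2 : MulOn n2 (Q2 K) := fun x hx y hy => by ext <;> simp [n2, mem_Q2.1 hx, mem_Q2.1 hy] <;> ring
theorem n1_n1 (h : x ∈ Q1 K) : n1 (n1 x) = x := by ext <;> simp [n1, h.1, h.2]
theorem n2_four (h : x ∈ Q2 K) : n2 (n2 (n2 (n2 x))) = x := by ext <;> simp [n2, mem_Q2.1 h, mul_comm]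
theorem piso_n1 : PIso n1 (Q1 K) (Q1 K) :=
  .of_inverse mulOn_n1 (fun x _ => n1_mem x) (fun x _ => n1_mem x) (fun _ => n1_n1) fun _ => n1_n1
theorem piso_n2 : PIso n2 (Q2 K) (Q2 K) := .of_inverse (g := fun x => n2 (n2 (n2 x))) mulOn_n2 (fun x _ => n2_mem x)
  (fun _ _ => n2_mem _) (fun _ => n2_four) fun _ => n2_four

theorem p1_mul (hy : y ∈ Q1 K) (x : Su K) : p1 (x * y) = p1 x + p1 y := by simp [p1, hy.1, hy.2]
theorem p2_mul (hx : x ∈ Q2 K) (y : Su K) : p2 (x * y) = p2 x + p2 y := by simp [p2, mem_Q2.1 hx]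
theorem p1_cj (hx : x ∈ Q1 K) (t : Su K) : p1 (t * x * t⁻¹) = tu (-t.b) (star t.c) (p1 x) := by
  simp only [p1, tu, Prod.mk.injEq]; refine ⟨?_, ?_, ?_⟩ <;> simp [hx.1, hx.2] <;> ring
theorem p2_cj (x t : Su K) (hx : x ∈ Q2 K) : p2 (t * x * t⁻¹) = ((p2 x).1 + t.s * (p2 x).2, (p2 x).2) := by
  simp only [p2, Prod.mk.injEq]; refine ⟨?_, ?_⟩ <;> simp [mem_Q2.1 hx] <;> ring
theorem z_cj (hx : x ∈ Q1 K) (ht : t ∈ Q1 K) : (t * x * t⁻¹).z = x.z + om (p1 x) (p1 t) := by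
  simp [om, p1, hx.1, hx.2, ht.1, ht.2]; ring
theorem Z1_of_p1 (hx : x ∈ Q1 K) (e : p1 x = 0) : x ∈ Z1 K :=
  ⟨congrArg (·.1) e, hx.1, congrArg (·.2.1) e, hx.2, congrArg (·.2.2) e⟩
theorem p1_Z1 (h : x ∈ Z1 K) : p1 x = 0 := by simp [p1, h.1, h.2.2.1, h.2.2.2.2]
theorem sU_of_p2 (hx : x ∈ Q2 K) (e : p2 x = 0) : x ∈ sU K := ⟨hx, congrArg (·.2) e, congrArg (·.1) e⟩
theorem p2_sU (h : x ∈ sU K) : p2 x = 0 := by simp [p2, h.2.1, h.2.2]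
theorem p1_inv (hx : x ∈ Q1 K) (hy : y ∈ Q1 K) (e : p1 x = p1 y) : x⁻¹ * y ∈ Z1 K := by
  have m := mul_mem (inv_mem hx) hy
  have := p1_mul m x
  rw [mul_inv_cancel_left, e, left_eq_add] at this
  exact Z1_of_p1 m this
theorem p2_inv (hx : x ∈ Q2 K) (hy : y ∈ Q2 K) (e : p2 x = p2 y) : x⁻¹ * y ∈ sU K := by
  have := p2_mul hx (x⁻¹ * y)
  rw [mul_inv_cancel_left, e, left_eq_add] at this
  exact sU_of_p2 (mul_mem (inv_mem hx) hy) this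

theorem cm_congr {x' y' : Su K} (hx : x ∈ Q2 K) (hy : y ∈ Q2 K) (hx' : x' ∈ Q2 K) (hy' : y' ∈ Q2 K)
    (e1 : p2 x = p2 x') (e2 : p2 y = p2 y') : cm x y = cm x' y' := by
  simp only [p2, Prod.mk.injEq] at e1 e2
  ext <;> simp [cm, mem_Q2.1 hx, mem_Q2.1 hy, mem_Q2.1 hx', mem_Q2.1 hy', e1, e2] <;> ring

variable [Uf K]

theorem p1_sur (v : K × K × K) : ∃ x ∈ Q1 K, p1 x = v :=
  let ⟨x, h, e⟩ := exists_Q1 v.1 v.2.1 v.2.2
  ⟨x, h, Prod.ext e.1 (Prod.ext e.2.1 e.2.2)⟩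

theorem p2_sur (v : K × K) : ∃ x ∈ Q2 K, p2 x = v :=
  let ⟨x, h, e⟩ := exists_el' 0 v.2 v.1 0
  ⟨x, h, Prod.ext e.2.1 e.1⟩

theorem eq_sU (hf : MulOn f (Q2 K)) (hg : MulOn g (Q2 K)) (h1 : ∀ x ∈ Q2 K, f x ∈ Q2 K) (h2 : ∀ x ∈ Q2 K, g x ∈ Q2 K)
    (e : ∀ x ∈ Q2 K, p2 (f x) = p2 (g x)) (ha : a ∈ sU K) : f a = g a := by
  have k : ∀ x ∈ Q2 K, ∀ y ∈ Q2 K, f (cm x y) = g (cm x y) := fun x hx y hy => by
    rw [map_cm hf hx hy, map_cm hg hx hy, cm_congr (h1 x hx) (h1 y hy) (h2 x hx) (h2 y hy) (e x hx) (e y hy)]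
  obtain ⟨c, e1⟩ := exists_sk_eq (one_ne_zero (α := K)) (c_sk ha.2.1)
  obtain ⟨x, x1, x2, x3, -⟩ := exists_el' (K := K) 0 1 0 0
  obtain ⟨y, y1, y2, y3, -⟩ := exists_el' 0 c 0 0
  obtain ⟨w, w1, w2, w3, -⟩ := exists_el' 0 0 a.u 0
  have m : (cm x y * cm w x)⁻¹ * a ∈ Z1 K := by
    simp [mem_Z1, cm_c, cm_r, cm_u, x1, x2, x3, y1, y2, y3, w1, w2, w3, ha.1, ha.2.1, ha.2.2, ← e1]
  obtain ⟨d, e2⟩ := exists_sk_eq (one_ne_zero (α := K)) (Z1_sk m)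
  obtain ⟨u, u1, u2, u3⟩ := exists_Q1 (K := K) 0 1 0
  obtain ⟨v, v1, v2, v3⟩ := exists_Q1 0 d 0
  have e3 := Z1_ext (cm_Q1 u1 v1) m (by rw [cm_z u1.1 u1.2 v1.1 v1.2, ← e2]; simp [u2, u3, v2, v3])
  have q := fun x y : Su K => (cm_s x y : cm x y ∈ Q2 K)
  rw [← mul_inv_cancel_left (cm x y * cm w x) a, ← e3, hf (mul_mem (q ..) (q ..)) (q ..), hf (q ..) (q ..),
    hg (mul_mem (q ..) (q ..)) (q ..), hg (q ..) (q ..), k x x1 y y1, k w w1 x x1, k u u2 v v2]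

theorem stab_sU (φ : MulAut (Q2 K)) : φ ∈ stab (Q2 K) (sU K) := mem_stab_of_maps (sU_le.trans Z3_le) fun _ ha =>
  cen_Q2 (fn_mem φ ha.1) fun _ hy => (fn_comm φ ha.1 (fun _ he => sU_comm ha he) hy).symm

theorem stab_Z1 (φ : MulAut (Q1 K)) : φ ∈ stab (Q1 K) (Z1 K) := mem_stab_of_maps (Z1_le.trans Z2_le_Q1) fun _ ha =>
  cen_Q1 fun _ hy => (fn_comm φ (Z2_le_Q1 (Z1_le ha)) (fun e _ => Z1_comm ha e) hy).symm

/-- the standard Weyl element for `Q1` -/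
noncomputable def N1 (K : Type*) [Field K] [StarRing K] : MulAut (Q1 K) := piso_n1.aut
/-- the standard Weyl element for `Q2` -/
noncomputable def N2 (K : Type*) [Field K] [StarRing K] : MulAut (Q2 K) := piso_n2.aut

variable {p : ℕ} [Fact p.Prime] [CharP K p] {E F : FusionSystem (⊤ : Subgroup (Su K))}

omit [CharP K p] in
theorem not_norm (hF : Sat F p) (h : F.IsEssential p P) (hP : ∀ t, t ∈ normalizer (P : Set (Su K))) :
    ¬ F.autGroup P ≤ normalizer (autInducedBy ⊤ P : Set (MulAut P)) := fun n =>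
  (hF.ess_lt h).not_ge fun s hs => hF.ess_mem h ⟨hs, hP s⟩
    (le_OpIn (autInducedBy_le F le_top) n (hF.ess_syl h).pg (cA_mem_autInducedBy hs))

/-- the action on `Q2 / U` -/
structure A2 (F : FusionSystem (⊤ : Subgroup (Su K))) (p : ℕ) (ρ : MulAut (Q2 K) → K × K →+ K × K) : Prop where
  pl : Pl p (F.autGroup (Q2 K)) (autInducedBy ⊤ (Q2 K)) ρ
  app : ∀ φ ∈ F.autGroup (Q2 K), ∀ x ∈ Q2 K, ρ φ (p2 x) = p2 (fn φ x)
  ker : ∀ φ ∈ F.autGroup (Q2 K), (∀ v, ρ φ v = v) → ∃ k, φ ^ p ^ k = 1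

omit [CharP K p] in
theorem exists_a2 (hF : Sat F p) : ∃ ρ, A2 F p ρ := by
  obtain ⟨ρ, r, hρ⟩ := exists_rp (F.autGroup (Q2 K)) p2 (fun x hx y _ => p2_mul hx y) p2_sur fun φ _ x hx e =>
    p2_sU (stab_maps (stab_sU φ) (sU_of_p2 hx e))
  have k : ∀ s v, ρ (cA (Q2 K) s) v = (v.1 + s.s * v.2, v.2) := fun s v => by
    obtain ⟨x, hx, rfl⟩ := p2_sur v
    rw [hρ _ (cA_mem_autGroup F le_top trivial) x hx, fn_cA (norm_Q2 s) hx, p2_cj x s hx]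
  refine ⟨ρ, ⟨r, hF.syl_of_fn (fn_of_norm F le_top fun s _ => norm_Q2 s), fun t ht => ?_,
    fun a => ⟨_, cA_mem_autInducedBy trivial, k (xs a)⟩⟩, hρ, fun φ hφ e => ?_⟩
  · obtain ⟨s, -, -, rfl⟩ := mem_autInducedBy.1 ht
    exact ⟨_, k s⟩
  · have a : ∀ x ∈ Q2 K, p2 (fn φ x) = p2 x := fun x hx => by rw [← hρ φ hφ x hx, e]
    exact isPGroup_iff_mem.1 OpIn_isPGroup φ (mem_OpIn₂ (hF.pgroup le_top) (fun ψ _ => stab_sU ψ) hφ
      (fun x hx => p2_inv hx (fn_mem φ hx) (a x hx).symm) fun x _ =>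
        eq_sU (mulOn_fn φ) (mulOn_id _) (fun _ => fn_mem φ) (fun _ h => h) a)

namespace A2

variable {ρ : MulAut (Q2 K) → K × K →+ K × K} (h : A2 F p ρ) {φ : MulAut (Q2 K)}
include h

omit [Fact p.Prime] [Uf K] [CharP K p] in
theorem chn : autInducedBy ⊤ (Q2 K) ≤ h.pl.rp.chn _ _ (le_refl (AddMonoidHom.snd K K).ker) := fun t ht => by
  obtain ⟨a, e⟩ := h.pl.act t ht
  exact ⟨h.pl.syl.le ht, fun v => by simp [e, AddSubgroup.mem_prod], fun v _ => by simp [e, AddSubgroup.mem_prod],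
    fun v hv => by rw [e, show v.2 = 0 from hv]; exact Prod.ext (by simp) (Eq.symm hv)⟩

omit [Fact p.Prime] in
theorem norm (hφ : φ ∈ F.autGroup (Q2 K)) (e : ∀ u, (ρ φ (u, 0)).2 = 0) :
    φ ∈ normalizer (autInducedBy ⊤ (Q2 K) : Set (MulAut (Q2 K))) := by
  have a : ∀ v ∈ (AddMonoidHom.snd K K).ker, ρ φ v ∈ (AddMonoidHom.snd K K).ker := fun v hv => by
    rw [show v = (v.1, 0) from Prod.ext rfl hv]; exact e _
  exact h.pl.rp.norm_of_chn h.pl.syl (fun v => by rw [← Nat.cast_smul_eq_nsmul K, CharP.cast_eq_zero, zero_smul])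
    h.ker _ h.chn hφ a a

omit [Fact p.Prime] in
theorem inn (hφ : φ ∈ F.autGroup (Q2 K)) (e : ∀ x ∈ Q2 K, p2 (fn φ x) = p2 x) :
    ∃ t ∈ Q2 K, ∀ x ∈ Q2 K, fn φ x = t * x * t⁻¹ := by
  have a : ∀ v, ρ φ v = v := fun v => by
    obtain ⟨x, hx, rfl⟩ := p2_sur v
    rw [h.app φ hφ x hx, e x hx]
  obtain ⟨t, -, ht⟩ := mem_autInducedBy'.1 (h.pl.rp.mem_of_chn h.pl.syl
    (fun v => by rw [← Nat.cast_smul_eq_nsmul K, CharP.cast_eq_zero, zero_smul]) h.ker _ h.chn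
    ⟨hφ, fun v => by simp [a], fun v _ => by simp [a], fun v _ => a v⟩)
  obtain ⟨x, hx, e1⟩ := p2_sur ((0, 1) : K × K)
  have := e x hx
  rw [ht x hx, p2_cj x t hx, e1] at this
  exact ⟨t, by simpa [mem_Q2] using this, ht⟩

theorem mov (hF : Sat F p) (hE : F.IsEssential p (Q2 K)) : ∃ φ ∈ F.autGroup (Q2 K), ∃ a, (ρ φ (a, 0)).2 ≠ 0 := by
  by_contra! c
  exact not_norm hF hE norm_Q2 fun φ hφ => h.norm hφ (c φ hφ)

end A2

/-- the action on `Q1 / Z1` -/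
structure A1 (F : FusionSystem (⊤ : Subgroup (Su K))) (p : ℕ) (ρ : MulAut (Q1 K) → K × K × K →+ K × K × K) :
    Prop where
  un : Un p (F.autGroup (Q1 K) ⊓ fix (Q1 K) (Z1 K)) (autInducedBy ⊤ (Q1 K)) ρ
  app : ∀ φ ∈ F.autGroup (Q1 K), ∀ x ∈ Q1 K, ρ φ (p1 x) = p1 (fn φ x)

omit [CharP K p] in
theorem exists_a1 (hF : Sat F p) : ∃ ρ, A1 F p ρ := by
  obtain ⟨ρ, r, hρ⟩ := exists_rp (F.autGroup (Q1 K)) p1 (fun x _ y hy => p1_mul hy x) p1_sur fun φ _ x hx e =>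
    p1_Z1 (stab_maps (stab_Z1 φ) (Z1_of_p1 hx e))
  have k : ∀ s v, ρ (cA (Q1 K) s) v = tu (-s.b) (star s.c) v := fun s v => by
    obtain ⟨x, hx, rfl⟩ := p1_sur v
    rw [hρ _ (cA_mem_autGroup F le_top trivial) x hx, fn_cA (norm_Q1 s) hx, p1_cj hx]
  have sy := hF.syl_of_fn (fn_of_norm F le_top fun s _ => norm_Q1 s)
  refine ⟨ρ, ⟨r.mono inf_le_left, sy.mono (le_inf sy.le fun t ht z hz => ?_) inf_le_left, fun φ hφ e => ?_,
    fun t ht => ?_, fun σ γ e => ?_, fun φ hφ v w => ?_⟩, hρ⟩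
  · obtain ⟨s, -, e⟩ := mem_autInducedBy'.1 ht
    rw [e z (Z2_le_Q1 (Z1_le hz)), Z1_comm hz, mul_inv_cancel_right]
  · exact isPGroup_iff_mem.1 OpIn_isPGroup φ (mem_OpIn₂ (hF.pgroup le_top) (fun ψ _ => stab_Z1 ψ) hφ.1
      (fun x hx => p1_inv hx (fn_mem φ hx) (by rw [← hρ φ hφ.1 x hx, e])) fun x _ => hφ.2 x)
  · obtain ⟨s, -, -, rfl⟩ := mem_autInducedBy.1 ht
    exact ⟨_, _, by simp; ring, k s⟩
  · obtain ⟨s, -, s1, s2, -⟩ := exists_el 0 0 0 (b := -σ) (c := star γ) (by simp [e]; ring)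
    exact ⟨_, cA_mem_autInducedBy trivial, fun v => by rw [k s, s1, s2, neg_neg, star_star]⟩
  · obtain ⟨x, hx, rfl⟩ := p1_sur v
    obtain ⟨y, hy, rfl⟩ := p1_sur w
    have := congrArg Su.z ((fn_cm φ hx hy).symm.trans (hφ.2 _ (cm_Q1 hx hy)))
    rw [cm_z hx.1 hx.2 hy.1 hy.2, cm_z (fn_mem φ hx).1 (fn_mem φ hx).2 (fn_mem φ hy).1 (fn_mem φ hy).2] at this
    rw [hρ φ hφ.1 x hx, hρ φ hφ.1 y hy]
    exact this

namespace A1

variable {ρ : MulAut (Q1 K) → K × K × K →+ K × K × K} (h : A1 F p ρ) {φ : MulAut (Q1 K)}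
include h

omit [CharP K p] in
theorem frat (hφ : φ ∈ F.autGroup (Q1 K)) : ∃ b ∈ F.autGroup (Q1 K) ⊓ fix (Q1 K) (Z1 K),
    b * φ ∈ normalizer (autInducedBy ⊤ (Q1 K) : Set (MulAut (Q1 K))) :=
  h.un.syl.frattini (mem_normalizer_of_le le_top fun _ hx =>
    ⟨mul_mem (mul_mem hφ hx.1) (Subgroup.inv_mem _ hφ), conj_mem_of_norm (stab_le_norm_fix (stab_Z1 φ)) hx.2⟩)

omit [CharP K p] in
theorem mov (hF : Sat F p) (hE : F.IsEssential p (Q1 K)) : ¬ F.autGroup (Q1 K) ⊓ fix (Q1 K) (Z1 K) ≤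
    normalizer (autInducedBy ⊤ (Q1 K) : Set (MulAut (Q1 K))) := fun c => not_norm hF hE norm_Q1 fun φ hφ => by
  obtain ⟨b, b1, b2⟩ := h.frat hφ
  simpa using mul_mem (inv_mem (c b1)) b2

omit [Fact p.Prime] in
theorem inn (hφ : φ ∈ F.autGroup (Q1 K) ⊓ fix (Q1 K) (Z1 K)) (e : ∀ x ∈ Q1 K, p1 (fn φ x) = p1 x) :
    ∃ t ∈ Q1 K, ∀ x ∈ Q1 K, fn φ x = t * x * t⁻¹ := by
  obtain ⟨t, -, ht⟩ := mem_autInducedBy'.1 (h.un.mem_T (σ := 0) (γ := 0) hφ fun v => by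
    obtain ⟨x, hx, rfl⟩ := p1_sur v
    rw [h.app φ hφ.1 x hx, e x hx]; simp [tu])
  have := e _ (xs_mem 1)
  rw [ht _ (xs_mem 1), p1_cj (xs_mem 1)] at this
  simp only [tu, p1, xs, Prod.mk.injEq, one_mul, zero_add, zero_mul, sub_zero, neg_eq_zero, star_eq_zero] at this
  exact ⟨t, this.2, ht⟩

end A1

/-- systems containing the standard Weyl elements -/
structure Std (F : FusionSystem (⊤ : Subgroup (Su K))) (p : ℕ) : Prop where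
  sat : Sat F p
  m1 : N1 K ∈ F.autGroup (Q1 K)
  m2 : N2 K ∈ F.autGroup (Q2 K)

theorem Std.sub (hE : Std E p) (hF : Std F p) (top : ∀ f, Mor E ⊤ f → Mor F ⊤ f) : E.IsSubsystemOf F := by
  have k : ∀ {P : Subgroup (Su K)}, (∀ t, t ∈ normalizer (P : Set (Su K))) → ∀ φ ∈ E.autGroup P,
      φ ∈ normalizer (autInducedBy ⊤ P : Set (MulAut P)) → φ ∈ F.autGroup P := fun n φ h1 h2 =>
    let ⟨g, g1, g2⟩ := ext_top hE.sat le_top (fun s _ => n s) h1 h2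
    ((top g g1).mono le_top).aut_mem' fun x hx => (g2 x hx).symm
  refine hE.sat.alperin_sub fun P hP φ hφ => ?_
  rcases hP with rfl | hP
  · exact top _ (mor_fn le_rfl hφ)
  refine mor_fn le_top ?_
  rcases ess_two hE.sat hP with rfl | rfl
  · obtain ⟨ρ, h⟩ := exists_a1 hE.sat
    obtain ⟨b, b1, b2⟩ := h.frat hφ
    have n : N1 K ∈ E.autGroup (Q1 K) ⊓ fix (Q1 K) (Z1 K) := ⟨hE.m1, fun z hz => by
      rw [N1, piso_n1.fn_aut (Z2_le_Q1 (Z1_le hz))]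
      ext <;> simp [n1, hz.1, hz.2.1, hz.2.2.1, hz.2.2.2.1, hz.2.2.2.2]⟩
    have a : b ∈ F.autGroup (Q1 K) := by_contra fun c => by
      obtain ⟨t, t1, t2⟩ := h.un.dec n (fun w hw => by
        obtain ⟨x, hx, rfl⟩ := p1_sur w
        rw [h.app _ hE.m1 x hx, N1, piso_n1.fn_aut hx]
        exact Prod.ext (neg_eq_zero.2 hw.2) hw.1) b1 (mt (k norm_Q1 b b1.1) c)
      have := k norm_Q1 _ (mul_mem (mul_mem (inv_mem hE.m1) (h.un.syl.le t1).1) b1.1) t2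
      exact c (by simpa [mul_assoc] using mul_mem (inv_mem (mul_mem (inv_mem hF.m1) (autInducedBy_le F le_top t1))) this)
    simpa using mul_mem (inv_mem a) (k norm_Q1 _ (mul_mem b1.1 hφ) b2)
  · obtain ⟨ρ, h⟩ := exists_a2 hE.sat
    by_contra c
    obtain ⟨a, ha⟩ := not_forall.1 (mt (h.norm hφ) (mt (k norm_Q2 φ hφ) c))
    obtain ⟨t, t1, t2⟩ := h.pl.onto (-(ρ φ (a, 0)).1 / (ρ φ (a, 0)).2)
    have m := mul_mem (mul_mem (inv_mem hE.m2) (h.pl.syl.le t1)) hφ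
    have := k norm_Q2 _ m (h.norm m (h.pl.ti m (a := a) (by rintro rfl; simp [show ((0 : K), (0 : K)) = 0 from rfl] at ha) (by
      obtain ⟨x, hx, e⟩ := p2_sur (-(ρ φ (a, 0)).2, 0)
      have e1 := h.app _ hE.m2 x hx
      rw [N2, piso_n2.fn_aut hx, show p2 (n2 x) = ((p2 x).2, -(p2 x).1) from rfl, e, neg_neg] at e1
      rw [h.pl.rp.mul3 (inv_mem hE.m2) (h.pl.syl.le t1) hφ, t2, div_mul_cancel₀ _ ha, add_neg_cancel, ← e1, ← N2,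
        h.pl.rp.inv_app hE.m2])))
    exact c (by simpa [mul_assoc] using mul_mem (inv_mem (mul_mem (inv_mem hF.m2) (autInducedBy_le F le_top t1))) this)

end CF.FusU
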