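import Cfsg.Agent.FusU.H

/-! Saturated fusion systems on a Sylow `p`-subgroup of `SU₅(q)`: normalized systems are in standard form. -/

set_option autoImplicit false
set_option linter.style.haveILetI false

namespace CF.FusU

open Cfsg Cfsg.FusionSystem Subgroup CF.Fus CF.FusD Function Su

variable {K : Type*} [Field K] [StarRing K] [Uf K] {x y z t a : Su K} {f g : Su K → Su K} {α β γ δ μ d e : K}
  {P : Subgroup (Su K)} {σ τ : K ≃+* K}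

/-- the diagonal automorphisms induced by the special unitary group -/
def hh (d e : K) : Su K →* Su K := dg (d / e) (d * e ^ 2 / (star d * star e)) 1

theorem hh_eq (hd : d ≠ 0) (he : e ≠ 0) (x : Su K) : (hh d e x).s = d / e * x.s ∧
    (hh d e x).b = d * e ^ 2 / (star d * star e) * x.b ∧ (hh d e x).c = e * star e * x.c ∧
    (hh d e x).r = d ^ 2 * e / (star d * star e) * x.r ∧ (hh d e x).u = d * star e * x.u ∧
    (hh d e x).z = d * star d * x.z := by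
  have := star_ne_zero.2 hd
  have := star_ne_zero.2 he
  simp only [hh, dg_s, dg_b, dg_c, dg_r, dg_u, dg_z, RingAut.one_apply, star_div₀, star_mul', star_pow, star_star]
  refine ⟨trivial, trivial, ?_, ?_, ?_, ?_⟩ <;> field_simp

theorem n1_hh (hd : d ≠ 0) (x : Su K) : n1 (hh 1 d x) = hh 1 (star d)⁻¹ (n1 x) := by
  have h := star_ne_zero.2 hd
  have a := hh_eq one_ne_zero hd x
  have b := hh_eq one_ne_zero (inv_ne_zero h) (n1 x)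
  ext <;> simp only [b] <;> simp only [n1, a, star_one, star_inv₀, star_star, mul_zero] <;> field_simp

theorem n2_hh (hd : d ≠ 0) (he : e ≠ 0) (hx : x ∈ Q2 K) : n2 (hh d e x) = hh e d (n2 x) := by
  have := star_ne_zero.2 hd
  have := star_ne_zero.2 he
  have a := hh_eq hd he x
  have b := hh_eq he hd (n2 x)
  ext <;> simp only [b] <;>
    simp only [n2, a, mem_Q2.1 hx, star_div₀, star_mul', star_pow, star_star, mul_zero, zero_mul, add_zero] <;> field_simp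

omit [Uf K] in
theorem cm_u2 (hx : x ∈ Q2 K) (hy : y ∈ Q2 K) : (cm x y).u = x.r * star y.b - y.r * star x.b := by
  simp [cm_u, mem_Q2.1 hx, mem_Q2.1 hy]

theorem exists_cube : ∃ d : K, d ≠ 0 ∧ d ^ 3 ≠ star d ^ 2 := by
  by_contra! c
  have k : ∀ a : K, star a = a → a ≠ 0 → a = 1 := fun a h h0 =>
    mul_left_cancel₀ (pow_ne_zero 2 h0) (by linear_combination c a h0 + (star a + a) * h)
  obtain ⟨e, he⟩ := Uf.nr (K := K)
  have e0 : e ≠ 0 := by rintro rfl; simp at he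
  have e1 := k (e * star e) (by simp [mul_comm]) (mul_ne_zero e0 (star_ne_zero.2 e0))
  have e2 := k (-1) (by simp) (by simp)
  have e3 := k (e + star e) (by simp [add_comm]) fun d => he (by linear_combination d + e * e2)
  have e4 := c e e0
  refine he ?_
  rw [show star e = 1 - e by linear_combination e3] at e1 e4
  have : e = 1 := by linear_combination e4 + e * e1
  simp [this]

theorem eq_one_of (h0 : α ≠ 0) (h : ∀ s, α * τ s = β * s) : τ = 1 ∧ α = β := by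
  have a : α = β := by simpa using h 1
  exact ⟨RingEquiv.ext fun s => mul_left_cancel₀ h0 (by rw [h, a]; rfl), a⟩

variable {p : ℕ} [Fact p.Prime] [CharP K p] {E F : FusionSystem (⊤ : Subgroup (Su K))}

omit [CharP K p] in
theorem mor_dg_mul (h1 : Mor F ⊤ (dg α β σ)) (h2 : Mor F ⊤ (dg γ δ τ)) : Mor F ⊤ (dg (α * σ γ) (β * σ δ) (σ * τ)) :=
  (h2.comp h1 fun _ _ => trivial).congr fun x _ => (dg_dg x).symm

omit [Fact p.Prime] [CharP K p] in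
theorem aut_Q1 (h : Mor F ⊤ (dg α β τ)) : ∃ φ ∈ F.autGroup (Q1 K), ∀ x ∈ Q1 K, fn φ x = dg α β τ x :=
  ((h.mono le_top).iso_self fun x hx => mem_Q1.2 ⟨by simp [hx.1], by simp [hx.2]⟩).exists_aut

omit [Fact p.Prime] [CharP K p] in
theorem aut_Q2 (h : Mor F ⊤ (dg α β τ)) : ∃ φ ∈ F.autGroup (Q2 K), ∀ x ∈ Q2 K, fn φ x = dg α β τ x :=
  ((h.mono le_top).iso_self fun x hx => by simp [mem_Q2, mem_Q2.1 hx]).exists_aut

namespace Nm

variable (h : Nm F p)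
include h

omit [CharP K p] in
theorem ext (hP : ∀ t, t ∈ normalizer (P : Set (Su K))) {φ : MulAut P} (h1 : φ ∈ F.autGroup P)
    (h2 : φ ∈ normalizer (autInducedBy ⊤ P : Set (MulAut P))) :
    ∃ t α β τ, α ≠ 0 ∧ β ≠ 0 ∧ Mor F ⊤ (dg α β τ) ∧ ∀ x ∈ P, fn φ x = t * dg α β τ x * t⁻¹ :=
  let ⟨g, g1, g2⟩ := ext_top h.sat le_top (fun s _ => hP s) h1 h2
  let ⟨t, α, β, τ, a0, b0, m, e⟩ := h.top g g1
  ⟨t, α, β, τ, a0, b0, m, fun x hx => (g2 x hx).symm.trans (e x)⟩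

theorem ha (hμ : μ ≠ 0) : Mor F ⊤ (dg (μ ^ 2) μ⁻¹ 1) := by
  obtain ⟨ρ, r⟩ := exists_a2 h.sat
  obtain ⟨φ, hφ, a, ha⟩ := r.mov h.sat h.e2
  obtain ⟨k, k0, -, k1, k2⟩ := r.pl.exists_h (M := ⊤) (fun _ _ _ _ => trivial) hφ ha hμ
  obtain ⟨t, α, β, τ, a0, b0, m, e⟩ := h.ext norm_Q2 k0 (r.norm k0 fun u => by rw [k1])
  have e1 : ∀ v, ρ k v = (α * β * τ v.1 + t.s * (β * τ v.2), β * τ v.2) := fun v => by
    obtain ⟨x, hx, rfl⟩ := p2_sur v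
    rw [r.app k k0 x hx, e x hx, p2_cj _ t (by simp [mem_Q2, mem_Q2.1 hx])]; rfl
  obtain ⟨rfl, rfl⟩ := eq_one_of b0 fun b => (congrArg Prod.snd (e1 (0, b))).symm.trans (k2 _)
  obtain rfl : α = μ ^ 2 := by
    have := congrArg Prod.fst ((e1 (1, 0)).symm.trans (k1 1))
    simp only [map_one, map_zero] at this
    field_simp at this
    linear_combination this
  exact m

theorem mon : ∃ ρ, A1 F p ρ ∧ ∀ γ ≠ 0, ∃ m ∈ F.autGroup (Q1 K) ⊓ fix (Q1 K) (Z1 K), ∀ v, ρ m v = mo γ v := by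
  obtain ⟨ρ, r⟩ := exists_a1 h.sat
  refine ⟨ρ, r, fun γ => r.un.main (r.mov h.sat h.e1) fun k k0 k1 => ?_⟩
  obtain ⟨t, α, β, τ, -, -, -, e⟩ := h.ext norm_Q1 k0.1 k1
  refine ⟨-t.b, star t.c, α, α * β, α * β * star β, τ, fun v => ?_⟩
  obtain ⟨x, hx, rfl⟩ := p1_sur v
  rw [r.app k k0.1 x hx, e x hx, p1_cj ⟨by simp [hx.1], by simp [hx.2]⟩]; rfl

theorem hb (hγ : γ ≠ 0) : Mor F ⊤ (dg γ⁻¹ (γ ^ 2 / star γ) 1) := by
  obtain ⟨ρ, r, k⟩ := h.mon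
  obtain ⟨m, m0, m1⟩ := k γ hγ
  obtain ⟨n, n0, n1⟩ := k 1 one_ne_zero
  have k0 := mul_mem m0 n0
  have k1 : ∀ v, ρ (m * n) v = (γ⁻¹ * v.1, γ / star γ * v.2.1, star γ * v.2.2) := fun v => by
    rw [r.un.rp.mul _ m0 _ n0, m1, n1]; simp [mo, div_eq_inv_mul]
  obtain ⟨t, α, β, τ, a0, b0, m, e⟩ := h.ext norm_Q1 k0.1 (r.un.norm k0 fun w hw => by simp [k1, mem_sW, hw.1, hw.2])
  have e1 : ∀ v, ρ (_ * n) v = tu (-t.b) (star t.c) (α * τ v.1, α * β * τ v.2.1, α * β * star β * τ v.2.2) := fun v => by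
    obtain ⟨x, hx, rfl⟩ := p1_sur v
    rw [r.app _ k0.1 x hx, e x hx, p1_cj ⟨by simp [hx.1], by simp [hx.2]⟩]; rfl
  obtain ⟨rfl, rfl⟩ := eq_one_of a0 fun s => congrArg Prod.fst ((e1 (s, 0, 0)).symm.trans (k1 _))
  obtain rfl : β = γ ^ 2 / star γ := by
    have := congrArg (·.2.1) ((e1 (0, 1, 0)).symm.trans (k1 _))
    have := star_ne_zero.2 hγ
    simp only [tu, map_one, map_zero] at *
    field_simp at *
    linear_combination ‹_ = γ ^ 2›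
  exact m

theorem tor (hd : d ≠ 0) (he : e ≠ 0) : Mor F ⊤ (hh d e) := by
  have := star_ne_zero.2 hd
  have := star_ne_zero.2 he
  have a := mor_dg_mul (h.ha hd) (h.hb (mul_ne_zero hd he))
  rwa [RingAut.one_apply, RingAut.one_apply, mul_one, show d ^ 2 * (d * e)⁻¹ = d / e by field_simp,
    show d⁻¹ * ((d * e) ^ 2 / star (d * e)) = d * e ^ 2 / (star d * star e) by rw [star_mul']; field_simp] at a

theorem m1 : N1 K ∈ F.autGroup (Q1 K) := by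
  obtain ⟨ρ, r, k⟩ := h.mon
  obtain ⟨m, m0, m1⟩ := k 1 one_ne_zero
  have e1 : ∀ x ∈ Q1 K, p1 (fn m x) = p1 (n1 x) := fun x hx => by rw [← r.app m m0.1 x hx, m1]; simp [mo, p1, n1]
  obtain ⟨γ, hγ⟩ := Uf.nr (K := K)
  have g0 : γ ≠ 0 := by rintro rfl; simp at hγ
  have g1 := star_ne_zero.2 g0
  have g2 : 1 - γ ≠ 0 := fun c => hγ (by simp [← sub_eq_zero.1 c])
  have g3 : star γ - 1 ≠ 0 := fun c => g2 (by simpa using congrArg (fun a => -star a) c)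
  have g4 := sub_ne_zero.2 hγ.symm
  obtain ⟨φ, a1, a2⟩ : ∃ φ ∈ F.autGroup (Q1 K), ∀ x ∈ Q1 K, fn φ x = hh 1 γ x := aut_Q1 (h.tor one_ne_zero g0)
  obtain ⟨ψ, b1, b2⟩ : ∃ φ ∈ F.autGroup (Q1 K), ∀ x ∈ Q1 K, fn φ x = hh 1 (star γ)⁻¹ x :=
    aut_Q1 (h.tor one_ne_zero (inv_ne_zero g1))
  have fz : ∀ {d : K}, d ≠ 0 → ∀ z ∈ Z1 K, hh 1 d z = z := fun hd z hz => by
    ext <;> simp [hh_eq one_ne_zero hd, hz.1, hz.2.1, hz.2.2.1, hz.2.2.2.1, hz.2.2.2.2]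
  have l := Z1_le.trans (Z2_le_Q1 (K := K))
  have a3 : φ ∈ F.autGroup (Q1 K) ⊓ fix (Q1 K) (Z1 K) := ⟨a1, fun z hz => by rw [a2 z (l hz), fz g0 z hz]⟩
  have b3 : ψ ∈ F.autGroup (Q1 K) ⊓ fix (Q1 K) (Z1 K) :=
    ⟨b1, fun z hz => by rw [b2 z (l hz), fz (inv_ne_zero g1) z hz]⟩
  have c1 : ∀ x ∈ Q1 K, p1 (fn ψ (fn m x)) = p1 (n1 (fn φ x)) := fun x hx => by
    rw [← r.app ψ b1 _ (fn_mem m hx), e1 x hx, r.app ψ b1 _ (n1_mem x), b2 _ (n1_mem x), a2 x hx, n1_hh g0 x]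
  obtain ⟨t, ht, c2⟩ := r.inn (mul_mem (mul_mem m0 a3) (inv_mem (mul_mem b3 m0))) fun x hx => by
    have := fn_mem (ψ * m)⁻¹ hx
    rw [fn_mul, fn_mul, e1 _ (fn_mem φ this), ← c1 _ this, ← fn_mul, fn_fn_inv]
  have c3 : ∀ x ∈ Q1 K, ∀ y ∈ Q1 K, ∀ w ∈ Q1 K, p1 w = p1 x + p1 y →
      (fn m w).z - w.z = (fn m x).z - x.z + ((fn m y).z - y.z) := fun x hx y hy w hw e => by
    have z1 := p1_inv (mul_mem hx hy) hw (by rw [p1_mul hy, e])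
    have e2 := e1 x hx
    have e3 := e1 y hy
    simp only [p1, n1, Prod.mk.injEq] at e2 e3
    rw [← mul_inv_cancel_left (x * y) w, mulOn_fn m (mul_mem hx hy) (l z1), m0.2 _ z1, mulOn_fn m hx hy]
    generalize (x * y)⁻¹ * w = z at z1
    simp [z1.1, z1.2.1, z1.2.2.1, z1.2.2.2.1, z1.2.2.2.2, e2, e3, hy.1, hy.2, (fn_mem m hy).1, (fn_mem m hy).2]
    ring
  obtain ⟨s, hs, s1, s2, s3⟩ := exists_Q1 (star (1 - γ)⁻¹ * t.s) (star (γ / (γ - star γ)) * t.r)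
    (star (star γ / (star γ - 1)) * t.u)
  refine ((mor_fn le_top m0.1).cj_comp (mem_top s⁻¹)).aut_mem' fun y hy => ?_
  obtain ⟨x, hx, x1, x2, x3⟩ := exists_Q1 (γ / (1 - γ) * y.s) (star γ / (γ - star γ) * y.r) ((star γ - 1)⁻¹ * y.u)
  have e4 := hh_eq one_ne_zero g0 x
  have e5 := c3 x hx y hy _ (fn_mem φ hx) (by
    simp only [a2 x hx, p1, e4, x1, x2, x3, star_one, Prod.mk_add_mk, Prod.mk.injEq]
    refine ⟨?_, ?_, ?_⟩ <;> field_simp <;> ring)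
  have e6 := congrArg Su.z (c2 _ (fn_mem (ψ * m) hx))
  rw [fn_mul, fn_inv_fn, fn_mul, fn_mul, z_cj (fn_mem _ (fn_mem _ hx)) ht, c1 x hx, b2 _ (fn_mem m hx),
    (hh_eq one_ne_zero (inv_ne_zero g1) _).2.2.2.2.2] at e6
  have e7 : fn m y = s * n1 y * s⁻¹ := by
    have q := conj_mem_of_norm (norm_Q1 s) (n1_mem y)
    have e8 := (e1 y hy).trans (show p1 (n1 y) = p1 (s * n1 y * s⁻¹) by simp [p1_cj (n1_mem y), tu, hs.1, hs.2])
    refine Su.ext (congrArg (·.1) e8) ((fn_mem m hy).1.trans q.1.symm) ((fn_mem m hy).2.trans q.2.symm)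
      (congrArg (·.2.1) e8) (congrArg (·.2.2) e8) ?_
    rw [z_cj (n1_mem y) hs]
    simp only [a2 x hx, om, p1, n1, e4, x1, x2, x3, s1, s2, s3, star_one, star_mul', star_div₀, star_sub, star_star,
      star_inv₀, star_neg, one_pow] at e5 e6 ⊢
    have g5 : 1 - star γ ≠ 0 := fun c => g3 (by linear_combination -c)
    have g6 : γ - 1 ≠ 0 := fun c => g2 (by linear_combination -c)
    have g7 := sub_ne_zero.2 hγ
    rw [show (fn m y).z = y.z + ((fn m (hh 1 γ x)).z - (fn m x).z) by linear_combination -e5, e6]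
    field_simp
    ring
  rw [N1, piso_n1.fn_aut hy, comp_apply, cj_apply, e7]
  group

theorem bar : ∃ ρ, A2 F p ρ ∧ ∃ m ∈ F.autGroup (Q2 K), ∀ v, ρ m v = (v.2, -v.1) := by
  obtain ⟨ρ, r⟩ := exists_a2 h.sat
  have q := r.pl.rp
  obtain ⟨φ, hφ, a, ha⟩ := r.mov h.sat h.e2
  obtain ⟨n, n0, -, n1, n2⟩ := r.pl.exists_n (M := ⊤) (fun _ _ _ _ => trivial) hφ ha
  obtain ⟨d, d0, d1⟩ := exists_cube (K := K)
  have d2 := star_ne_zero.2 d0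
  have d3 := div_ne_zero (pow_ne_zero 2 d0) d2
  have d4 := div_ne_zero d2 d0
  obtain ⟨k, k0, k1⟩ : ∃ φ ∈ F.autGroup (Q2 K), ∀ x ∈ Q2 K, fn φ x = hh (d ^ 2 / star d) (star d / d) x :=
    aut_Q2 (h.tor d3 d4)
  have k2 : ∀ v, ρ k v = (d ^ 3 / star d ^ 2 * v.1, v.2) := fun v => by
    obtain ⟨x, hx, rfl⟩ := p2_sur v
    rw [r.app k k0 x hx]
    simp only [k1 x hx, p2, hh_eq d3 d4 x, star_div₀, star_pow, star_star, Prod.mk.injEq]
    refine ⟨?_, ?_⟩ <;> field_simp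
  have d5 : d ^ 3 / star d ^ 2 - 1 ≠ 0 := fun c => d1 (by field_simp at c; linear_combination c)
  generalize d ^ 3 / star d ^ 2 = α at k2 d5
  obtain ⟨t, ht, et⟩ := r.pl.onto ((α - 1) * (ρ n (1, 0)).1)
  have t0 := r.pl.syl.le ht
  have m0 := mul_mem (inv_mem n0) (mul_mem (mul_mem t0 k0) n0)
  have a1 : ∀ u, ρ n (u, 0) = ((ρ n (1, 0)).1 * u, -u) := fun u => by
    have e1 := r.pl.ti m0 one_ne_zero (by
      rw [q.mul _ (inv_mem n0) _ (mul_mem (mul_mem t0 k0) n0), q.mul3 t0 k0 n0, k2, et, n1,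
        show (α * (ρ n (1, 0)).1 + (α - 1) * (ρ n (1, 0)).1 * -1, -1) = ρ n (1, 0) from
          Prod.ext (by ring) (n1 1).symm, q.inv_app n0]) u
    have e2 := q.app_inv n0 (ρ (t * k * n) (u, 0))
    rw [← q.mul _ (inv_mem n0) _ (mul_mem (mul_mem t0 k0) n0),
      show ρ (n⁻¹ * (t * k * n)) (u, 0) = (_, 0) from Prod.ext rfl e1, q.mul3 t0 k0 n0, k2, et, n1] at e2
    have e3 := congrArg Prod.snd e2
    rw [n1, neg_inj] at e3
    rw [e3] at e2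
    exact Prod.ext (mul_left_cancel₀ d5 (by linear_combination -congrArg Prod.fst e2)) (n1 u)
  generalize (ρ n (1, 0)).1 = a at a1
  obtain ⟨s, hs, es⟩ := r.pl.onto a
  obtain ⟨s', hs', es'⟩ := r.pl.onto (-a)
  refine ⟨ρ, r, _, mul_mem (mul_mem (r.pl.syl.le hs) n0) (r.pl.syl.le hs'), fun v => ?_⟩
  have e4 := n2 (-v.2)
  rw [a1, neg_neg] at e4
  rw [q.mul3 (r.pl.syl.le hs) n0 (r.pl.syl.le hs'), es', show (v.1 + -a * v.2, v.2) = (v.1, 0) + (a * -v.2, v.2) from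
    Prod.ext (by simp) (by simp), map_add, e4, a1, es]
  exact Prod.ext (by simp) (by simp)

theorem lift2 {ρ : MulAut (Q2 K) → K × K →+ K × K} (r : A2 F p ρ) {m : MulAut (Q2 K)} (m0 : m ∈ F.autGroup (Q2 K))
    (e1 : ∀ x ∈ Q2 K, p2 (fn m x) = p2 (n2 x)) (hd : d ≠ 0) (he : e ≠ 0)
    (h1 : d ^ 2 * e / (star d * star e) - 1 ≠ 0) (h2 : d * e ^ 2 / (star d * star e) - 1 ≠ 0) :
    ∃ t ∈ Q2 K, ∀ y ∈ Q2 K, ∃ x ∈ Q2 K, (d ^ 2 * e / (star d * star e) - 1) * x.r = y.r ∧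
      (d * e ^ 2 / (star d * star e) - 1) * x.b = y.b ∧
      (n2 x)⁻¹ * fn m x * ((n2 y)⁻¹ * fn m y) = hh e d ((n2 x)⁻¹ * fn m x) * cm (n2 (hh d e x)) t := by
  obtain ⟨φ, a1, a2⟩ : ∃ φ ∈ F.autGroup (Q2 K), ∀ x ∈ Q2 K, fn φ x = hh d e x := aut_Q2 (h.tor hd he)
  obtain ⟨ψ, b1, b2⟩ : ∃ φ ∈ F.autGroup (Q2 K), ∀ x ∈ Q2 K, fn φ x = hh e d x := aut_Q2 (h.tor he hd)
  have c1 : ∀ x ∈ Q2 K, p2 (fn ψ (fn m x)) = p2 (n2 (fn φ x)) := fun x hx => by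
    rw [← r.app ψ b1 _ (fn_mem m hx), e1 x hx, r.app ψ b1 _ (n2_mem x), b2 _ (n2_mem x), a2 x hx, n2_hh hd he hx]
  obtain ⟨t, ht, c2⟩ := r.inn (mul_mem (mul_mem m0 a1) (inv_mem (mul_mem b1 m0))) fun x hx => by
    have := fn_mem (ψ * m)⁻¹ hx
    rw [fn_mul, fn_mul, e1 _ (fn_mem φ this), ← c1 _ this, ← fn_mul, fn_fn_inv]
  refine ⟨t, ht, fun y hy => ?_⟩
  obtain ⟨x, hx, x1, x2, -⟩ := exists_el' 0 (y.b / (d * e ^ 2 / (star d * star e) - 1))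
    (y.r / (d ^ 2 * e / (star d * star e) - 1)) 0
  have x3 := mul_div_cancel₀ y.r h1
  have x4 := mul_div_cancel₀ y.b h2
  rw [← x2] at x3
  rw [← x1] at x4
  refine ⟨x, hx, x3, x4, ?_⟩
  have u := fun x (hx : x ∈ Q2 K) => p2_inv (n2_mem x) (fn_mem m hx) (e1 x hx).symm
  have z1 := p2_inv (mul_mem hx hy) (fn_mem φ hx) (by
    rw [p2_mul hx]
    simp only [a2 x hx, p2, hh_eq hd he x, Prod.mk_add_mk, Prod.mk.injEq]
    exact ⟨by linear_combination -x3, by linear_combination -x4⟩)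
  have e2 := c2 _ (fn_mem (ψ * m) hx)
  rw [fn_mul, fn_inv_fn, fn_mul, fn_mul, b2 _ (fn_mem m hx), ← mul_cm, ← mul_inv_cancel_left (n2 x) (fn m x), map_mul,
    cm_congr (mul_mem (n2_hh hd he hx ▸ n2_mem _) (b2 _ (u x hx).1 ▸ fn_mem ψ (u x hx).1)) ht (n2_mem (hh d e x)) ht
      (by rw [← map_mul, mul_inv_cancel_left, ← b2 _ (fn_mem m hx), c1 x hx, a2 x hx]) rfl, ← n2_hh hd he hx,
    mul_assoc, ← inv_mul_eq_iff_eq_mul] at e2
  rw [← e2, ← a2 x hx, ← mul_inv_cancel_left (x * y) (fn φ x), mulOn_fn m (mul_mem hx hy) z1.1,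
    mulOn_n2 (mul_mem hx hy) z1.1, eq_sU (mulOn_fn m) mulOn_n2 (fun _ => fn_mem m) (fun x _ => n2_mem x) e1 z1,
    mulOn_fn m hx hy, mulOn_n2 hx hy]
  have z2 : n2 ((x * y)⁻¹ * fn φ x) ∈ sU K := ⟨rfl, neg_eq_zero.2 z1.2.2, z1.2.1⟩
  generalize n2 ((x * y)⁻¹ * fn φ x) = z at z2
  rw [sU_comm z2 (mul_mem (fn_mem m hx) (fn_mem m hy)), ← mul_assoc, ← sU_comm (u x hx) (inv_mem (n2_mem y)),
    sU_comm z2 (mul_mem (n2_mem x) (n2_mem y))]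
  group

theorem m2 : N2 K ∈ F.autGroup (Q2 K) := by
  obtain ⟨ρ, r, m, m0, e0⟩ := h.bar
  have e1 : ∀ x ∈ Q2 K, p2 (fn m x) = p2 (n2 x) := fun x hx => by rw [← r.app m m0 x hx, e0]; rfl
  obtain ⟨d, d0, d1⟩ := exists_cube (K := K)
  have d2 := star_ne_zero.2 d0
  have d3 : d ^ 3 - star d ^ 2 ≠ 0 := sub_ne_zero.2 d1
  have d4 : star d ^ 3 - d ^ 2 ≠ 0 := by simpa using star_ne_zero.2 d3
  have d5 : star d ^ 2 - d ^ 3 ≠ 0 := sub_ne_zero.2 d1.symm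
  have d6 : d ^ 2 - star d ^ 3 ≠ 0 := fun c => d4 (by linear_combination -c)
  have f1 : d ^ 2 * (star d)⁻¹ / (star d * star (star d)⁻¹) - 1 = (d ^ 3 - star d ^ 2) / star d ^ 2 := by
    rw [star_inv₀, star_star]; field_simp
  have f2 : d * (star d)⁻¹ ^ 2 / (star d * star (star d)⁻¹) - 1 = (d ^ 2 - star d ^ 3) / star d ^ 3 := by
    rw [star_inv₀, star_star]; field_simp
  obtain ⟨t, ht, c⟩ := h.lift2 r m0 e1 d0 (inv_ne_zero d2) (f1 ▸ div_ne_zero d3 (pow_ne_zero 2 d2))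
    (f2 ▸ div_ne_zero d6 (pow_ne_zero 3 d2))
  obtain ⟨s, hs, s1, s2, -⟩ := exists_el' 0 (star d ^ 2 / (star d ^ 2 - d ^ 3) * t.b)
    (star d ^ 3 / (star d ^ 3 - d ^ 2) * t.r) 0
  have n0 := mul_mem (cA_mem_autGroup F (P := Q2 K) le_top (mem_top s⁻¹)) m0
  have g0 : ∀ x ∈ Q2 K, fn (cA (Q2 K) s⁻¹ * m) x = s⁻¹ * fn m x * s⁻¹⁻¹ := fun x hx => by
    rw [fn_mul, fn_cA (norm_Q2 _) (fn_mem m hx)]
  have g1 : ∀ x ∈ Q2 K, p2 (fn (cA (Q2 K) s⁻¹ * m) x) = p2 (n2 x) := fun x hx => by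
    rw [g0 x hx, p2_cj _ _ (fn_mem m hx), e1 x hx]; simp [hs]
  have g2 : ∀ y ∈ Q2 K, ((n2 y)⁻¹ * fn (cA (Q2 K) s⁻¹ * m) y).u = 0 := fun y hy => by
    obtain ⟨x, hx, x1, x2, e⟩ := c y hy
    have u1 := p2_inv (n2_mem x) (fn_mem m hx) (e1 x hx).symm
    have u2 := p2_inv (n2_mem y) (fn_mem m hy) (e1 y hy).symm
    rw [f1] at x1
    rw [f2] at x2
    have e3 := congrArg Su.u e
    rw [g0 y hy, ← mul_cm, cm_congr (fn_mem m hy) (inv_mem hs) (n2_mem y) (inv_mem hs) (e1 y hy) rfl, ← mul_assoc]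
    generalize (n2 x)⁻¹ * fn m x = a at e3 u1
    generalize (n2 y)⁻¹ * fn m y = b at e3 u2
    simp only [mul_u, cm_u2 (n2_mem _) ht, cm_u2 (n2_mem _) (inv_mem hs)] at e3 ⊢
    simp only [hh_eq (inv_ne_zero d2) d0 a, hh_eq d0 (inv_ne_zero d2) x, u1.1, u1.2.2, u2.1, u2.2.2, cm_b, n2, inv_b, inv_r, hs, s1, s2, ← x1, ← x2, star_mul', star_div₀,
      star_pow, star_sub, star_star, star_neg, star_inv₀, mul_zero, zero_mul] at e3 ⊢
    rw [show b.u = _ from eq_sub_of_add_eq' (by simpa only [add_zero, sub_zero] using e3)]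
    field_simp
    ring
  generalize cA (Q2 K) s⁻¹ * m = n at n0 g1 g2
  obtain ⟨ε, hε⟩ := Uf.nr (K := K)
  have e0 : ε ≠ 0 := by rintro rfl; simp at hε
  have e2 := star_ne_zero.2 e0
  obtain ⟨μ, μ0, μ1, μ2⟩ : ∃ μ : K, μ ≠ 0 ∧ μ - 1 ≠ 0 ∧ star μ = μ⁻¹ := ⟨ε / star ε, div_ne_zero e0 e2,
    fun c => hε (by field_simp at c; linear_combination -c), by simp⟩
  have f3 : μ ^ 2 * μ⁻¹ / (star μ * star μ⁻¹) = μ := by rw [star_inv₀, μ2]; field_simp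
  have f4 : μ * μ⁻¹ ^ 2 / (star μ * star μ⁻¹) = μ⁻¹ := by rw [star_inv₀, μ2]; field_simp
  obtain ⟨t, ht, c⟩ := h.lift2 r n0 g1 μ0 (inv_ne_zero μ0) (by rwa [f3])
    (by rw [f4]; exact fun c => μ1 (by field_simp at c; linear_combination -c))
  have u := fun x (hx : x ∈ Q2 K) => p2_inv (n2_mem x) (fn_mem n hx) (g1 x hx).symm
  have g4 : ∀ y ∈ Q2 K, ∃ x ∈ Q2 K, (μ - 1) * x.r = y.r ∧ (μ⁻¹ - 1) * x.b = y.b ∧
      (n2 y)⁻¹ * fn n y = cm (n2 (hh μ μ⁻¹ x)) t := fun y hy => by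
    obtain ⟨x, hx, x1, x2, e⟩ := c y hy
    rw [show hh μ⁻¹ μ ((n2 x)⁻¹ * fn n x) = (n2 x)⁻¹ * fn n x by
      ext <;> simp only [hh_eq (inv_ne_zero μ0) μ0, (u x hx).1, (u x hx).2.1, (u x hx).2.2, g2 x hx, mul_zero, μ2,
        star_inv₀] <;> field_simp, mul_right_inj] at e
    exact ⟨x, hx, f3 ▸ x1, f4 ▸ x2, e⟩
  have g5 : ∀ y ∈ Q2 K, ∃ x : Su K, (μ - 1) * x.r = y.r ∧ (μ⁻¹ - 1) * x.b = y.b ∧
      μ⁻¹ * x.b * star t.b + t.r * star (μ * x.r) = 0 := fun y hy => by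
    obtain ⟨x, hx, x1, x2, e⟩ := g4 y hy
    have := congrArg Su.u e
    rw [g2 y hy, cm_u2 (n2_mem _) ht] at this
    simp only [n2, hh_eq μ0 (inv_ne_zero μ0) x, f3, f4, star_neg] at this
    exact ⟨x, x1, x2, by linear_combination -this⟩
  have g6 : t ∈ sU K := by
    obtain ⟨y, y1, y2, y3, -⟩ := exists_el' (K := K) 0 1 0 0
    obtain ⟨w, w1, w2, w3, -⟩ := exists_el' (K := K) 0 0 1 0
    obtain ⟨x, x1, x2, x3⟩ := g5 y y1
    obtain ⟨v, v1, v2, v3⟩ := g5 w w1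
    have a1 : x.r = 0 := (mul_eq_zero.1 (x1.trans y3)).resolve_left μ1
    have a2 : x.b ≠ 0 := fun c => by simp [c, y2] at x2
    have a3 : v.r ≠ 0 := fun c => by simp [c, w3] at v1
    have a4 : t.b = 0 := by simpa [a1, a2, μ0] using x3
    exact ⟨ht, a4, by simpa [a3, a4, μ0] using v3⟩
  refine (mor_fn le_top n0).aut_mem' fun y hy => ?_
  obtain ⟨x, -, -, -, e⟩ := g4 y hy
  rw [cm_eq_one.2 (sU_comm g6 (n2_mem _)), inv_mul_eq_one] at e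
  rw [N2, piso_n2.fn_aut hy, e]

theorem std : Std F p := ⟨h.sat, h.m1, h.m2⟩

end Nm

end CF.FusU
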