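import Cfsg.Agent.FusU.I
import Cfsg.Agent.Chev.LTU
import Cfsg.Agent.Geom.Perfect

/-! The special unitary group `SU₅(q)` and its Sylow `p`-subgroup. -/

set_option autoImplicit false
set_option linter.style.haveILetI false

namespace CF.FusU

open Cfsg Subgroup CF.Fus CF.FusD Function Su Matrix CF.Chev

variable {K : Type*} [Field K] [StarRing K] {x y : Su K}

/-- the special unitary group for the antidiagonal form -/
def G5 (K : Type*) [Field K] [StarRing K] : Subgroup (SpecialLinearGroup (Fin 5) K) :=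
  (suσ 5 (starRingEnd K)).eqLocus (MonoidHom.id _)

/-- the matrix of an element -/
def mt5 (g : G5 K) : Matrix (Fin 5) (Fin 5) K := g.1.1

theorem mt5_mul (g h : G5 K) : mt5 (g * h) = mt5 g * mt5 h := rfl
theorem mt5_ext {g h : G5 K} (e : mt5 g = mt5 h) : g = h := Subtype.ext (Subtype.ext e)
theorem mt5_det (g : G5 K) : (mt5 g).det = 1 := g.1.2
theorem mt5_un (g : G5 K) : ((mt5 g).map (starRingEnd K))ᵀ * revM 5 K * mt5 g = revM 5 K :=
  suσ_eq_iff.1 g.2

/-- elements from matrices -/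
def mk5 (A : Matrix (Fin 5) (Fin 5) K) (h1 : A.det = 1) (h2 : (A.map (starRingEnd K))ᵀ * revM 5 K * A = revM 5 K) :
    G5 K := ⟨⟨A, h1⟩, suσ_eq_iff.2 h2⟩

theorem un_iff {A : Matrix (Fin 5) (Fin 5) K} : (A.map (starRingEnd K))ᵀ * revM 5 K * A = revM 5 K ↔ ∀ i j,
    star (A 4 i) * A 0 j + star (A 3 i) * A 1 j + star (A 2 i) * A 2 j + star (A 1 i) * A 3 j + star (A 0 i) * A 4 j =
      if j = i.rev then 1 else 0 := by
  simp only [← Matrix.ext_iff, mul_apply (N := A), mul_revM, Fin.sum_univ_five]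
  rfl

/-- the unitriangular matrices -/
def um (x : Su K) : Matrix (Fin 5) (Fin 5) K :=
  !![1, x.s, x.r, x.u, x.z; 0, 1, x.b, x.c, -(star x.u + star x.s * x.c + star x.r * x.b);
    0, 0, 1, -star x.b, star x.s * star x.b - star x.r; 0, 0, 0, 1, -star x.s; 0, 0, 0, 0, 1]

theorem um_det (x : Su K) : (um x).det = 1 := by
  rw [det_of_upperTriangular (fun i j h => by fin_cases i <;> fin_cases j <;> first | rfl | exact absurd h (by decide))]
  simp [um, Fin.prod_univ_five]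

theorem fa5 {P : Fin 5 → Prop} : (∀ i, P i) ↔ P 0 ∧ P 1 ∧ P 2 ∧ P 3 ∧ P 4 := by simp [Fin.forall_fin_succ]

theorem rev5 : (0 : Fin 5).rev = 4 ∧ (1 : Fin 5).rev = 3 ∧ (2 : Fin 5).rev = 2 ∧ (3 : Fin 5).rev = 1 ∧
    (4 : Fin 5).rev = 0 := by decide

theorem um_un (x : Su K) : ((um x).map (starRingEnd K))ᵀ * revM 5 K * um x = revM 5 K := by
  simp only [un_iff, fa5, rev5, um, of_apply, cons_val', cons_val, cons_val_zero, cons_val_one, cons_val_fin_one]
  simp
  and_intros <;> ring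

theorem um_mul (x y : Su K) : um (x * y) = um x * um y := by
  simp only [← Matrix.ext_iff, fa5, mul_apply, Fin.sum_univ_five, um, of_apply, cons_val', cons_val, cons_val_zero,
    cons_val_one, cons_val_fin_one]
  simp
  and_intros <;> ring

/-- the embedding of the model -/
def emb (K : Type*) [Field K] [StarRing K] : Su K →* G5 K :=
  MonoidHom.mk' (fun x => mk5 (um x) (um_det x) (um_un x)) fun x y => mt5_ext (um_mul x y)

theorem mt5_emb (x : Su K) : mt5 (emb K x) = um x := rfl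

theorem emb_inj : Injective (emb K) := fun x y e => by
  have a := fun i j => congrArg (fun g => mt5 g i j) e
  exact Su.ext (a 0 1) (a 1 2) (a 1 3) (a 0 2) (a 0 3) (a 0 4)

theorem exists_w1 : ∃ w : G5 K, ∀ x ∈ Q1 K, w * emb K x * w⁻¹ = emb K (n1 x) := by
  refine ⟨mk5 !![1, 0, 0, 0, 0; 0, 0, 0, 1, 0; 0, 0, -1, 0, 0; 0, 1, 0, 0, 0; 0, 0, 0, 0, 1]
    ((congrArg det (by simp [← Matrix.ext_iff, fa5, diagonal_apply, Equiv.swap_apply_def])).trans
      ((det_permute (Equiv.swap 1 3) (diagonal ![1, 1, -1, 1, 1])).trans (by simp [Fin.prod_univ_five])))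
    (by simp [un_iff, fa5, rev5]),
    fun x hx => mul_inv_eq_of_eq_mul (mt5_ext ?_)⟩
  rw [mt5_mul, mt5_mul, mt5_emb, mt5_emb]
  simp only [← Matrix.ext_iff, fa5, mul_apply, Fin.sum_univ_five, um, mk5, mt5, of_apply, cons_val', cons_val,
    cons_val_zero, cons_val_one, cons_val_fin_one]
  simp [n1, hx.1, hx.2]

theorem exists_w2 : ∃ w : G5 K, ∀ x ∈ Q2 K, w * emb K x * w⁻¹ = emb K (n2 x) := by
  refine ⟨mk5 !![0, 1, 0, 0, 0; -1, 0, 0, 0, 0; 0, 0, 1, 0, 0; 0, 0, 0, 0, -1; 0, 0, 0, 1, 0]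
    ((congrArg det (by simp [← Matrix.ext_iff, fa5, diagonal_apply, Equiv.swap_apply_def])).trans ((det_permute
      (Equiv.swap 0 1 * Equiv.swap 3 4) (diagonal ![-1, 1, 1, 1, -1])).trans (by simp [Fin.prod_univ_five])))
    (by simp [un_iff, fa5, rev5]),
    fun x hx => mul_inv_eq_of_eq_mul (mt5_ext ?_)⟩
  rw [mt5_mul, mt5_mul, mt5_emb, mt5_emb]
  simp only [← Matrix.ext_iff, fa5, mul_apply, Fin.sum_univ_five, um, mk5, mt5, of_apply, cons_val', cons_val,
    cons_val_zero, cons_val_one, cons_val_fin_one]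
  simp [n2, mem_Q2.1 hx]
  ring

theorem tri [Uf K] (g : G5 K) (h : ∀ x, ∃ y, g * emb K y = emb K x * g) : ∃ d e : K, d ≠ 0 ∧ e ≠ 0 ∧
    ∀ x y, g * emb K y = emb K x * g → x.s = (hh d e y).s ∧ x.b = (hh d e y).b := by
  have k : ∀ x y, g * emb K y = emb K x * g → ∀ i j, (mt5 g * um y) i j = (um x * mt5 g) i j := fun x y e i j =>
    congrArg (fun g => mt5 g i j) e
  have h1 := mt5_det g
  have h2 := un_iff.1 (mt5_un g)
  generalize mt5 g = A at k h1 h2
  simp only [fa5, mul_apply, Fin.sum_univ_five, um, of_apply, cons_val', cons_val, cons_val_zero, cons_val_one,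
    cons_val_fin_one] at k
  obtain ⟨x, x1, x2, -⟩ := exists_el' (K := K) 1 1 0 0
  obtain ⟨y, e⟩ := h x
  obtain ⟨⟨e00, -⟩, ⟨e10, e11, -⟩, ⟨e20, e21, e22, -⟩, ⟨e30, e31, e32, e33, -⟩, -⟩ := k x y e
  simp only [x1, x2, star_one] at e00 e10 e11 e20 e21 e22 e30 e31 e32 e33
  have a40 : A 4 0 = 0 := by linear_combination e30
  have a30 : A 3 0 = 0 := by simpa [a40] using e20
  have a20 : A 2 0 = 0 := by simpa [a40, a30] using e10
  have a10 : A 1 0 = 0 := by simpa [a40, a30, a20, add_assoc] using e00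
  have a41 : A 4 1 = 0 := by simpa [a30] using e31
  have a31 : A 3 1 = 0 := by simpa [a20, a41] using e21
  have a21 : A 2 1 = 0 := by simpa [a10, a41, a31] using e11
  have a42 : A 4 2 = 0 := by simpa [a30, a31] using e32
  have a32 : A 3 2 = 0 := by simpa [a20, a21, a42] using e22
  have a43 : A 4 3 = 0 := by simpa [a30, a31, a32] using e33
  rw [det_of_upperTriangular (fun i j h => by
    fin_cases i <;> fin_cases j <;> first | assumption | exact absurd h (by decide)), Fin.prod_univ_five] at h1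
  have b1 : star (A 0 0) * A 4 4 = 1 := by simpa [a10, a20, a30, a40, rev5] using h2 0 4
  have b2 : star (A 1 1) * A 3 3 = 1 := by simpa [a21, a31, a41, a43, rev5] using h2 1 3
  have c0 : A 0 0 ≠ 0 := by rintro c; simp [c] at h1
  have c1 : A 1 1 ≠ 0 := by rintro c; simp [c] at h1
  have c2 := star_ne_zero.2 c0
  have c3 := star_ne_zero.2 c1
  refine ⟨_, _, c0, c1, fun x y e => ?_⟩
  obtain ⟨⟨-, e01, -⟩, ⟨-, -, e12, -⟩, -⟩ := k x y e
  simp only [hh_eq c0 c1 y, a10, a21, a31, a41, a32, a42] at e01 e12 ⊢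
  refine ⟨?_, ?_⟩ <;> field_simp
  · linear_combination -e01
  · linear_combination (A 0 0 * A 1 1) * (-e12) - x.b * star (A 0 0) * star (A 1 1) * h1 +
      x.b * A 0 0 * A 1 1 * A 2 2 * (A 3 3 * star (A 1 1) * b1 + b2)

/-- the diagonal entries -/
def dv (α β : K) : Fin 5 → K := ![α * β, β, 1, (star β)⁻¹, (star (α * β))⁻¹]

theorem dv_ne {α β : K} (h1 : α ≠ 0) (h2 : β ≠ 0) : ∀ i, dv α β i ≠ 0 := by simp [fa5, dv, h1, h2]

theorem exists_th [Uf K] {α β : K} (h1 : α ≠ 0) (h2 : β ≠ 0) (τ : K ≃+* K) : ∃ θ : MulAut (G5 K),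
    ∀ g i j, mt5 (θ g) i j = dv α β i * τ (mt5 g i j) * (dv α β j)⁻¹ := by
  have n := dv_ne h1 h2
  have a : diagonal (fun j => (dv α β j)⁻¹) * diagonal (dv α β) = 1 := by
    rw [diagonal_mul_diagonal, ← diagonal_one]; congr 1; ext i; exact inv_mul_cancel₀ (n i)
  have b : ∀ A : Matrix (Fin 5) (Fin 5) K, ∀ i j, (diagonal (dv α β) * A.map τ * diagonal fun j => (dv α β j)⁻¹) i j =
      dv α β i * τ (A i j) * (dv α β j)⁻¹ := fun A i j => by rw [mul_diagonal, diagonal_mul]; rfl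
  have c : ∀ i, star (dv α β i) = (dv α β i.rev)⁻¹ := by simp [fa5, dv, rev5]
  let f : G5 K →* G5 K := MonoidHom.mk' (fun g => mk5 (diagonal (dv α β) * (mt5 g).map τ * diagonal fun j => (dv α β j)⁻¹)
    (by rw [det_mul_comm, ← Matrix.mul_assoc, a, Matrix.one_mul, ← τ.coe_toRingHom, ← RingHom.mapMatrix_apply,
      ← RingHom.map_det, mt5_det, map_one]) (un_iff.2 fun i j => by
      have e := congrArg τ (un_iff.1 (mt5_un g) i j)
      simp only [map_add, map_mul, Uf.aut, apply_ite τ, map_one, map_zero] at e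
      have e0 := n 0
      have e1 := n 1
      have e2 := n 2
      have e3 := n 3
      have e4 := n 4
      have e5 := n j
      simp only [b, star_mul', star_inv₀, c, rev5, inv_inv]
      split_ifs at e ⊢ with q
      · rw [← q]; field_simp; linear_combination e
      · field_simp; linear_combination dv α β i.rev * e)) fun g h => mt5_ext (by
    change diagonal _ * (mt5 g * mt5 h).map τ * diagonal _ = diagonal _ * _ * diagonal _ * (diagonal _ * _ * diagonal _)
    rw [← τ.coe_toRingHom, Matrix.map_mul]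
    simp only [Matrix.mul_assoc]
    rw [← Matrix.mul_assoc (diagonal fun j => (dv α β j)⁻¹), a, Matrix.one_mul])
  have e : ∀ g i j, mt5 (f g) i j = dv α β i * τ (mt5 g i j) * (dv α β j)⁻¹ := fun g => b _
  refine ⟨MulEquiv.ofBijective f (Finite.injective_iff_bijective.1 fun g h q => mt5_ext (Matrix.ext fun i j => ?_)), e⟩
  simpa [e, n] using congrArg (fun g => mt5 g i j) q

theorem th_emb [Uf K] {α β : K} (h1 : α ≠ 0) (h2 : β ≠ 0) {τ : K ≃+* K} {θ : MulAut (G5 K)}
    (e : ∀ g i j, mt5 (θ g) i j = dv α β i * τ (mt5 g i j) * (dv α β j)⁻¹) (x : Su K) :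
    θ (emb K x) = emb K (dg α β τ x) := mt5_ext (by
  have := star_ne_zero.2 h1
  have := star_ne_zero.2 h2
  simp only [← Matrix.ext_iff, fa5, e, mt5_emb, um, dv, of_apply, cons_val', cons_val, cons_val_zero, cons_val_one,
    cons_val_fin_one, dg_s, dg_b, dg_c, dg_r, dg_u, dg_z, map_add, map_sub, map_mul, map_neg, map_zero, map_one, Uf.aut,
    star_mul', star_star, mul_zero, zero_mul, true_and]
  and_intros <;> field_simp)

theorem card_Su [Uf K] : Nat.card (Su K) = Nat.card K ^ 4 * Nat.card {c : K // star c = -c} ^ 2 := by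
  obtain ⟨θ, e⟩ := exists_theta (K := K)
  rw [Nat.card_congr (show Su K ≃ K × K × K × K × {c : K // star c = -c} × {c : K // star c = -c} from
    ⟨fun x => (x.s, x.b, x.r, x.u, ⟨x.c + θ * x.b * star x.b, by simp [e]; ring⟩,
      ⟨x.z + x.s * star x.u + θ * x.r * star x.r, by simp [e]; ring⟩),
    fun v => ⟨v.1, v.2.1, v.2.2.2.2.1 - θ * v.2.1 * star v.2.1, v.2.2.1, v.2.2.2.1,
      v.2.2.2.2.2 - v.1 * star v.2.2.2.1 - θ * v.2.2.1 * star v.2.2.1, by simp [e, v.2.2.2.2.1.2]; ring,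
      by simp [e, v.2.2.2.2.2.2]; ring⟩, fun x => by ext <;> simp; ring, fun v => by ext <;> simp; ring⟩)]
  simp only [Nat.card_prod]
  ring

theorem syl_emb [Uf K] [Fintype K] {p n : ℕ} [Fact p.Prime] (hn : 1 ≤ n) (hK : Fintype.card K = (p ^ n) ^ 2)
    (hs : ∀ x : K, star x = x ^ p ^ n) : SylIn p (emb K).range ⊤ := by
  have hp : p.Prime := Fact.out
  obtain ⟨e⟩ := nonempty_SU_equiv (n := 4) (φ := starRingEnd K) hK hs star_star (by decide)
  have a : Nat.card (emb K).range = (p ^ n) ^ 10 := by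
    rw [← Nat.card_congr (MonoidHom.ofInjective emb_inj).toEquiv, card_Su, Nat.card_eq_fintype_card, hK]
    simp only [hs, CF.Geom.card_skew_eq hK]; ring
  refine SylIn.of_not_dvd le_top (IsPGroup.of_card (by rw [a, ← pow_mul])) fun c => ?_
  have b := CF.Geom.card_SU hK 5 (by decide)
  rw [← Nat.card_congr e.toEquiv, show Nat.card (twU (n := 4) (by decide) (starRingEnd K)).Fix = Nat.card (G5 K) from rfl,
    ← card_mul_index (emb K).range, a, mul_left_comm] at b
  rw [relIndex_top_right] at c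
  obtain ⟨i, -, hi⟩ := (Prime.dvd_finset_prod_iff hp.prime _).1
    (Nat.eq_of_mul_eq_mul_left (pow_pos (pow_pos hp.pos n) 10) b ▸ c.mul_left _)
  have d : p ∣ (p ^ n) ^ (i + 1) := (dvd_pow_self p (by omega)).pow (by omega)
  split_ifs at hi
  · exact hp.one_lt.ne' (Nat.dvd_one.1 ((Nat.dvd_add_right d).1 hi))
  · exact hp.one_lt.ne' (Nat.dvd_one.1 ((Nat.dvd_sub_iff_right (Nat.one_le_pow _ _ (pow_pos hp.pos n)) d).1 hi))

theorem exists_piso_PSU [Uf K] [Fintype K] {p n : ℕ} [Fact p.Prime] (hn : 1 ≤ n) (hK : Fintype.card K = (p ^ n) ^ 2)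
    (hs : ∀ x : K, star x = x ^ p ^ n) (T : Sylow p (PSU 5 K (p ^ n))) :
    ∃ f, PIso f (T : Subgroup (PSU 5 K (p ^ n))) (⊤ : Subgroup (Su K)) := by
  obtain ⟨e⟩ : Nonempty (G5 K ≃* SU 5 K (p ^ n)) :=
    nonempty_SU_equiv (n := 4) (φ := starRingEnd K) hK hs star_star (by decide)
  let π : G5 K →* PSU 5 K (p ^ n) := (QuotientGroup.mk' _).comp e.toMonoidHom
  have s := (syl_emb hn hK hs).map π
  rw [map_top_of_surjective π ((QuotientGroup.mk'_surjective _).comp e.surjective), ← MonoidHom.range_comp,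
    MonoidHom.range_eq_map] at s
  have i : Injective (π.comp (emb K)) := (injective_iff_map_eq_one _).2 fun x hx => by
    have c : ∀ g, g * emb K x = emb K x * g := fun g => e.injective (by
      rw [map_mul, map_mul]; exact mem_center_iff.1 ((QuotientGroup.eq_one_iff _).1 hx) _)
    have z := cen_Q1 (x := x) fun y _ => emb_inj (by rw [map_mul, map_mul, c])
    obtain ⟨w, hw⟩ := exists_w2 (K := K)
    have := hw x z.1
    rw [c, mul_inv_cancel_right] at this
    exact Z1_ext z (one_mem _) ((congrArg Su.z (emb_inj this)).trans z.2.2.2.1)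
  obtain ⟨b, -, hb⟩ := s.exists_conj_eq (sylIn_top T)
  exact ⟨_, (hb ▸ piso_cj b T).trans (piso_hom _ i ⊤).symm⟩

variable [Uf K] {p : ℕ} [Fact p.Prime] [CharP K p] {F : FusionSystem (⊤ : Subgroup (Su K))}

/-- the diagonal and field automorphisms which lie in the system -/
def Ga (F : FusionSystem (⊤ : Subgroup (Su K))) : Subgroup (MulAut (G5 K)) where
  carrier := {θ | ∃ α β τ, α ≠ 0 ∧ β ≠ 0 ∧ Mor F ⊤ (dg α β τ) ∧
    ∀ g i j, mt5 (θ g) i j = dv α β i * τ (mt5 g i j) * (dv α β j)⁻¹}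
  one_mem' := ⟨1, 1, 1, one_ne_zero, one_ne_zero, mor_of_eq_self F le_rfl fun x _ => dg_one x, fun g => by
    simp [fa5, dv]⟩
  mul_mem' := by
    rintro θ η ⟨α, β, σ, a0, b0, m, e⟩ ⟨γ, δ, τ, c0, d0, m', e'⟩
    refine ⟨_, _, _, mul_ne_zero a0 (σ.map_ne_zero_iff.2 c0), mul_ne_zero b0 (σ.map_ne_zero_iff.2 d0),
      (m'.comp m fun _ _ => trivial).congr fun x _ => (dg_dg x).symm, fun g i j => ?_⟩
    have : ∀ i, dv (α * σ γ) (β * σ δ) i = dv α β i * σ (dv γ δ i) := by
      simp only [fa5, dv, cons_val, cons_val_zero, cons_val_one, map_mul, map_inv₀, map_one, Uf.aut, star_mul', mul_inv]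
      and_intros <;> first | trivial | ring
    simp only [MulAut.mul_apply, e, e', this, map_mul, map_inv₀, RingAut.mul_apply, mul_inv]
    ring
  inv_mem' := by
    rintro θ ⟨α, β, τ, a0, b0, m, e⟩
    refine ⟨_, _, τ⁻¹, τ⁻¹.map_ne_zero_iff.2 (inv_ne_zero a0), τ⁻¹.map_ne_zero_iff.2 (inv_ne_zero b0),
      (m.iso_top.symm' fun x _ => dg_inv a0 b0 x).mor, fun g i j => τ.injective ?_⟩
    have : ∀ i, τ (dv (τ⁻¹ α⁻¹) (τ⁻¹ β⁻¹) i) = (dv α β i)⁻¹ := by simp [fa5, dv, Uf.aut, mul_comm]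
    have n := dv_ne a0 b0 i
    have n' := dv_ne a0 b0 j
    have e1 := e (θ⁻¹ g) i j
    rw [MulAut.apply_inv_self] at e1
    rw [map_mul τ, map_mul τ, map_inv₀ τ, this, this, show τ (τ⁻¹ (mt5 g i j)) = _ from τ.apply_symm_apply _, e1]
    field_simp

omit [CharP K p] in
theorem Ga_not_dvd (hF : Sat F p) : ¬ p ∣ Nat.card (Ga F) := fun c => by
  obtain ⟨⟨θ, α, β, τ, a0, b0, m, e⟩, o⟩ := exists_prime_orderOf_dvd_card' p c
  rw [← orderOf_coe] at o
  obtain ⟨ψ, h1, h2⟩ := m.iso_top.exists_aut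
  have k : ∀ (n : ℕ) x, (θ ^ n) (emb K x) = emb K (fn (ψ ^ n) x) := fun n x => by
    induction n with
    | zero => simp
    | succ n ih => rw [pow_succ', MulAut.mul_apply, ih, th_emb a0 b0 e, fn_pow_succ, h2 _ trivial]
  obtain ⟨t, -, rfl⟩ := mem_Inn.1 (hF.mem_Inn_top h1 (k := 1) (aut_ext fun x _ => emb_inj (by
    rw [← k, pow_one, ← o, pow_orderOf_eq_one, fn_one]; rfl)))
  have k2 : ∀ x, dg α β τ x = t * x * t⁻¹ := fun x => by
    rw [← h2 x trivial, fn_cA (le_normalizer (mem_top t)) trivial]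
  obtain ⟨rfl, rfl⟩ := eq_one_of (β := 1) a0 fun s => by simpa [xs] using congrArg Su.s (k2 (xs s))
  obtain ⟨x, -, x1, -⟩ := exists_el' (K := K) 0 1 0 0
  obtain rfl : β = 1 := by simpa [x1] using congrArg Su.b (k2 x)
  have : θ = 1 := MulEquiv.ext fun g => mt5_ext (Matrix.ext fun i j => by
    rw [e, show dv (1 : K) 1 = fun _ => 1 from funext (by simp [fa5, dv])]; simp)
  simp only [this, orderOf_one] at o
  exact (Fact.out : p.Prime).one_lt.ne o

theorem Nm.rz (h : Nm F p) (hs : SylIn p (emb K).range ⊤) : Rz F p := by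
  let φ : Su K →* G5 K ⋊[(Ga F).subtype] Ga F := SemidirectProduct.inl.comp (emb K)
  haveI : Finite (G5 K ⋊[(Ga F).subtype] Ga F) := Finite.of_equiv _ SemidirectProduct.equivProd.symm
  have cj1 : ∀ (g : G5 K ⋊[(Ga F).subtype] Ga F) a, g * .inl a * g⁻¹ =
      .inl (g.left * (g.right : MulAut (G5 K)) a * g.left⁻¹) := fun g a => by ext <;> simp [mul_assoc]
  have j : Injective φ := SemidirectProduct.inl_injective.comp emb_inj
  have i : PIso φ ⊤ φ.range := φ.range_eq_map ▸ piso_hom φ j ⊤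
  obtain ⟨E, e⟩ := exists_fiso (FG ⊤ φ.range le_top) i.symm
  have r := (e.symm' fun x hx => i.apply_pinv hx).toReal (p := p) (by
    rw [MonoidHom.range_comp]
    refine SylIn.of_not_dvd le_top (hs.pg.map _) ?_
    rw [relIndex_top_right, index_map_of_injective _ SemidirectProduct.inl_injective,
      SemidirectProduct.range_inl_eq_ker_rightHom, index_ker,
      MonoidHom.range_eq_top.2 SemidirectProduct.rightHom_surjective, card_top, (Fact.out : p.Prime).dvd_mul, not_or,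
      ← relIndex_top_right]
    exact ⟨hs.not_dvd_relIndex, Ga_not_dvd h.sat⟩)
  obtain ⟨w1, e1⟩ := exists_w1 (K := K)
  obtain ⟨w2, e2⟩ := exists_w2 (K := K)
  have s : Std E p := ⟨r.sat, (r.mor' (f := n1) le_top (mem_top (.inl w1)) (fun _ _ => trivial) fun x hx => by
      simp only [φ, MonoidHom.comp_apply, ← map_inv, ← map_mul, e1 x hx]).aut_mem' fun x => piso_n1.fn_aut,
    (r.mor' (f := n2) le_top (mem_top (.inl w2)) (fun _ _ => trivial) fun x hx => by
      simp only [φ, MonoidHom.comp_apply, ← map_inv, ← map_mul, e2 x hx]).aut_mem' fun x => piso_n2.fn_aut⟩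
  have t1 : ∀ f, Mor F ⊤ f → Mor E ⊤ f := fun f hf => by
    obtain ⟨t, α, β, τ, a0, b0, m, q⟩ := h.top f hf
    obtain ⟨θ, hθ⟩ := exists_th a0 b0 τ
    refine ((r.mor' (f := dg α β τ) le_rfl (mem_top (.inr ⟨θ, α, β, τ, a0, b0, m, hθ⟩)) (fun _ _ => trivial)
      fun x _ => ?_).cj_comp (mem_top t)).congr fun x _ => q x
    simp [φ, cj1, th_emb a0 b0 hθ]
  have t2 : ∀ f, Mor E ⊤ f → Mor F ⊤ f := fun f hf => by
    obtain ⟨⟨g, θ, α, β, τ, a0, b0, m, hθ⟩, -, q⟩ := r.real hf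
    have q1 : ∀ x, g * emb K (dg α β τ x) = emb K (f x) * g := fun x => by
      have := q x trivial
      simp only [φ, MonoidHom.comp_apply, cj1, th_emb a0 b0 hθ] at this
      exact mul_inv_eq_iff_eq_mul.1 (SemidirectProduct.inl_injective this)
    obtain ⟨d, c, d0, c0, q2⟩ := tri g fun x => let ⟨y, _, e⟩ := hf.iso_top.surj (mem_top x); ⟨_, e ▸ q1 y⟩
    have m1 := m.comp (h.tor d0 c0) fun _ _ => trivial
    have m2 := m1.iso_top
    obtain ⟨t, ht⟩ := inn_of_triv r.sat ((t1 _ m2.symm.mor).comp hf fun _ _ => trivial) fun x => by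
      have := q2 _ _ (q1 (pinv (hh d c ∘ dg α β τ) ⊤ x))
      rwa [show hh d c (dg α β τ (pinv (hh d c ∘ dg α β τ) ⊤ x)) = x from m2.piso.apply_pinv trivial] at this
    refine (m1.cj_comp (mem_top t)).congr fun x _ => ?_
    rw [Function.comp_apply, cj_apply, ← ht, Function.comp_apply, m2.piso.pinv_apply trivial]
  exact eq_of_sub (s.sub h.std t2) (h.std.sub s t1) ▸ exists_shrink r

theorem rz_su (hF : Sat F p) (hs : SylIn p (emb K).range ⊤) : Rz F p := by
  by_cases h1 : F.IsEssential p (Q1 K)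
  · by_cases h2 : F.IsEssential p (Q2 K)
    · obtain ⟨E, f, i, h⟩ := exists_nm hF h1 h2
      exact (h.rz hs).of_fiso i
    refine rz_of_normal hF (hF.normal_of_ess fun P hP => ?_) CS_Q1
    rcases hP with rfl | hP
    · exact ⟨le_top, fun α hα => (mem_stab_iff_img le_top).2 (map_Q1 hF h1 (mor_fn le_rfl hα).fiso hF)⟩
    · obtain rfl := (ess_two hF hP).resolve_right fun e => h2 (e ▸ hP)
      exact ⟨le_rfl, stab_self.ge.trans' le_top⟩
  refine rz_of_normal hF (hF.normal_of_ess fun P hP => ?_) CS_Q2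
  rcases hP with rfl | hP
  · exact ⟨le_top, fun α _ => mem_stab_of_maps le_top fun _ => map_Q2 (piso_fn α)⟩
  · obtain rfl := (ess_two hF hP).resolve_left fun e => h1 (e ▸ hP)
    exact ⟨le_rfl, stab_self.ge.trans' le_top⟩

end CF.FusU
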